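import Groth.Agent.H6FiltBl.Ext

/-!
# Factoriality of the extended Rees algebra
-/

set_option backward.isDefEq.respectTransparency false
set_option backward.isDefEq.respectTransparency.types false

universe u

open Polynomial LaurentPolynomial

namespace Groth.Agent.H6FiltBl

/-- A localization of a factorial domain is factorial. -/
theorem ufd_of_isLocalization {R : Type u} [CommRing R] [IsDomain R] [UniqueFactorizationMonoid R] (M : Submonoid R)
    (hM : M ≤ nonZeroDivisors R) (S : Type u) [CommRing S] [IsDomain S] [Algebra R S] [IsLocalization M S] :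
    UniqueFactorizationMonoid S := by
  rw [UniqueFactorizationMonoid.iff_exists_prime_mem_of_isPrime]
  intro Q hQ0 hQ
  have hne : Q.comap (algebraMap R S) ≠ ⊥ := fun h => hQ0 (by
    rw [← IsLocalization.map_under M S Q, show Q.under R = ⊥ from h, Ideal.map_bot])
  obtain ⟨p, hp, hpp⟩ := UniqueFactorizationMonoid.iff_exists_prime_mem_of_isPrime.1 ‹_›
    (Q.comap (algebraMap R S)) hne inferInstance
  haveI : (Ideal.span {p}).IsPrime := (Ideal.span_singleton_prime hpp.ne_zero).2 hpp
  have hdis : Disjoint (M : Set R) (Ideal.span {p} : Set R) := Set.disjoint_left.2 fun a ha hb =>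
    hQ.ne_top (Ideal.eq_top_of_isUnit_mem _ (Ideal.mem_comap.1
      ((Ideal.span_singleton_le_iff_mem _).2 hp hb)) (IsLocalization.map_units S ⟨a, ha⟩))
  have h := IsLocalization.isPrime_of_isPrime_disjoint M S _ ‹(Ideal.span {p}).IsPrime› hdis
  rw [Ideal.map_span, Set.image_singleton] at h
  refine ⟨algebraMap R S p, hp, (Ideal.span_singleton_prime ?_).1 h⟩
  exact fun h0 => hpp.ne_zero (IsLocalization.injective S hM (h0.trans (map_zero _).symm))

/-- Nagata's criterion for one prime element. -/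
theorem ufd_of_away {R : Type u} [CommRing R] [IsDomain R] [IsNoetherianRing R] {u : R} (hu : Prime u)
    (S : Type u) [CommRing S] [IsDomain S] [Algebra R S] [IsLocalization.Away u S] [UniqueFactorizationMonoid S] :
    UniqueFactorizationMonoid R := by
  rw [UniqueFactorizationMonoid.iff_exists_prime_mem_of_isPrime]
  intro P hP0 hP
  by_cases huP : u ∈ P
  · exact ⟨u, huP, hu⟩
  have hdis : Disjoint (Submonoid.powers u : Set R) (P : Set R) := Set.disjoint_left.2 fun a ha hb => huP (by
    obtain ⟨k, rfl⟩ := ha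
    exact hP.mem_of_pow_mem k hb)
  haveI := IsLocalization.isPrime_of_isPrime_disjoint (Submonoid.powers u) S P hP hdis
  have hle : Submonoid.powers u ≤ nonZeroDivisors R :=
    Submonoid.powers_le.2 (mem_nonZeroDivisors_of_ne_zero hu.ne_zero)
  have hinj := IsLocalization.injective S hle
  have hne : P.map (algebraMap R S) ≠ ⊥ := fun h => hP0 ((Ideal.map_eq_bot_iff_of_injective hinj).1 h)
  obtain ⟨q, hqP, hq⟩ := UniqueFactorizationMonoid.iff_exists_prime_mem_of_isPrime.1 ‹_› _ hne inferInstance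
  obtain ⟨⟨x, s⟩, hx⟩ := IsLocalization.surj (Submonoid.powers u) q
  have hx0 : x ≠ 0 := fun h => hq.ne_zero (by
    rw [h, map_zero] at hx
    exact (IsLocalization.map_units S s).mul_left_eq_zero.1 hx)
  obtain ⟨k, y, hy, rfl⟩ := WfDvdMonoid.max_power_factor hx0 hu.irreducible
  have hxP : u ^ k * y ∈ P := by
    rw [← IsLocalization.comap_map_of_isPrime_disjoint (Submonoid.powers u) S hP hdis, Ideal.mem_comap, ← hx]
    exact Ideal.mul_mem_right _ _ hqP
  have hyP : y ∈ P := (hP.mem_or_mem hxP).resolve_left fun h => huP (hP.mem_of_pow_mem k h)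
  have hass : Associated q (algebraMap R S y) := by
    refine Associated.trans ⟨(IsLocalization.map_units S s).unit, rfl⟩ ?_
    rw [IsUnit.unit_spec, hx, map_mul, map_pow]
    exact (associated_isUnit_mul_left_iff ((IsLocalization.Away.algebraMap_isUnit u).pow k)).2 (Associated.refl _)
  have hqy := hass.prime hq
  have hdvd : ∀ z, algebraMap R S y ∣ algebraMap R S z → y ∣ z := by
    intro z ⟨w, hw⟩
    obtain ⟨⟨w₀, t⟩, hw₀⟩ := IsLocalization.surj (Submonoid.powers u) w
    obtain ⟨_, m, rfl⟩ := t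
    have h1 : z * u ^ m = y * w₀ := hinj (by
      rw [map_mul, map_mul, hw, mul_assoc]
      exact congrArg _ hw₀)
    obtain ⟨w₁, hw₁⟩ : u ^ m ∣ w₀ := hu.pow_dvd_of_dvd_mul_left m hy ⟨z, by rw [← h1, mul_comm]⟩
    refine ⟨w₁, mul_right_cancel₀ (pow_ne_zero m hu.ne_zero) ?_⟩
    rw [h1, hw₁]
    ring
  refine ⟨y, hyP, fun h0 => hqy.ne_zero (by rw [h0, map_zero]), fun h => hqy.not_unit (h.map _), fun a b hab => ?_⟩
  exact (hqy.dvd_or_dvd (by rw [← map_mul]; exact map_dvd _ hab)).imp (hdvd a) (hdvd b)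

variable {A : Type u} [CommRing A]

theorem coeff_C_zero (a : A) : (LaurentPolynomial.C a : A[T;T⁻¹]).coeff 0 = a := by
  rw [← single_eq_C, AddMonoidAlgebra.coeff_single, Finsupp.single_eq_same]

theorem coeff_one_zero : (1 : A[T;T⁻¹]).coeff 0 = 1 := by
  rw [← single_zero_one_eq_one, AddMonoidAlgebra.coeff_single, Finsupp.single_eq_same]

theorem coeff_C_mul (a : A) (f : A[T;T⁻¹]) : (LaurentPolynomial.C a * f).coeff 0 = a * f.coeff 0 := by
  rw [← single_eq_C]
  exact AddMonoidAlgebra.coeff_single_zero_mul ..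

/-- The units of the Laurent polynomial ring over a domain are monomials. -/
theorem exists_monomial_of_isUnit [IsDomain A] {f : A[T;T⁻¹]} (hf : IsUnit f) :
    ∃ (c : A) (n : ℤ), IsUnit c ∧ f = LaurentPolynomial.C c * T n := by
  obtain ⟨g, hg⟩ := hf.exists_right_inv
  obtain ⟨n, f', hf'⟩ := exists_T_pow f
  obtain ⟨m, g', hg'⟩ := exists_T_pow g
  have h : f' * g' = Polynomial.X ^ (n + m) := by
    apply Polynomial.toLaurent_injective
    rw [map_mul, hf', hg', toLaurent_X_pow, mul_mul_mul_comm, hg, one_mul, ← T_add, Nat.cast_add]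
  obtain ⟨i, hi, hfi⟩ := (dvd_prime_pow Polynomial.prime_X (n + m)).1 ⟨g', h.symm⟩
  obtain ⟨v, hv⟩ := hfi.symm
  obtain ⟨c, hc, hcv⟩ := Polynomial.isUnit_iff.1 v.isUnit
  refine ⟨c, i - n, hc, ?_⟩
  have h2 : f * T n = LaurentPolynomial.C c * T i := by
    rw [← hf', ← hv, map_mul, toLaurent_X_pow, ← hcv, toLaurent_C, mul_comm]
  calc f = f * T n * T (-n) := by rw [mul_T_assoc, add_neg_cancel, T_zero, mul_one]
    _ = LaurentPolynomial.C c * T (i - n) := by rw [h2, mul_T_assoc, ← sub_eq_add_neg]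

/-- A domain is factorial as soon as its Laurent polynomial ring is. -/
theorem ufd_of_laurent [IsDomain A] (h : UniqueFactorizationMonoid A[T;T⁻¹]) : UniqueFactorizationMonoid A := by
  classical
  rw [UniqueFactorizationMonoid.iff_exists_prime_mem_of_isPrime]
  intro p hp0 hp
  obtain ⟨a, ha, ha0⟩ := Submodule.exists_mem_ne_zero_of_ne_bot hp0
  let J : Ideal A[T;T⁻¹] := RingHom.ker (AddMonoidAlgebra.mapRingHom ℤ (Ideal.Quotient.mk p))
  haveI : J.IsPrime := RingHom.ker_isPrime _
  have hJ : ∀ f : A[T;T⁻¹], f ∈ J → ∀ n, f.coeff n ∈ p := fun f hf n => by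
    have := congrArg (fun g : (A ⧸ p)[T;T⁻¹] => g.coeff n) (RingHom.mem_ker.1 hf)
    simpa [Ideal.Quotient.eq_zero_iff_mem] using this
  have haJ : LaurentPolynomial.C a ∈ J := by
    rw [RingHom.mem_ker, ← single_eq_C, AddMonoidAlgebra.mapRingHom_single,
      Ideal.Quotient.eq_zero_iff_mem.2 ha]
    simp
  have hCinj : Function.Injective (LaurentPolynomial.C : A →+* A[T;T⁻¹]) := fun x y hxy => by
    rw [← coeff_C_zero x, hxy, coeff_C_zero]
  obtain ⟨s, hs, u, hsu⟩ := UniqueFactorizationMonoid.exists_prime_factors _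
    (fun h0 => ha0 (hCinj (h0.trans (map_zero _).symm)))
  have hsJ : s.prod ∈ J := by
    rw [← Units.mul_inv_cancel_right s.prod u, hsu]
    exact J.mul_mem_right _ haJ
  obtain ⟨q, hqs, hqJ⟩ := (‹J.IsPrime›.multiset_prod_mem_iff_exists_mem s).1 hsJ
  have hq := hs q hqs
  -- `q` divides a nonzero constant, so it is a monomial
  obtain ⟨g, hg⟩ : q ∣ LaurentPolynomial.C a := (Multiset.dvd_prod hqs).trans ⟨u, hsu.symm⟩
  let K := FractionRing A
  let φ : A[T;T⁻¹] →+* K[T;T⁻¹] := AddMonoidAlgebra.mapRingHom ℤ (algebraMap A K)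
  have hunit : IsUnit (φ q) := by
    refine isUnit_of_mul_isUnit_left (y := φ g) ?_
    rw [← map_mul, ← hg, show φ (LaurentPolynomial.C a) = LaurentPolynomial.C (algebraMap A K a) from
      AddMonoidAlgebra.mapRingHom_single ..]
    exact ((isUnit_iff_ne_zero.2 fun h0 => ha0 (IsFractionRing.injective A K (h0.trans (map_zero _).symm)))).map _
  obtain ⟨c', n, hc', hcn⟩ := exists_monomial_of_isUnit hunit
  have hsupp : q = LaurentPolynomial.C (q.coeff n) * T n := by
    rw [← single_eq_C_mul_T]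
    refine LaurentPolynomial.ext fun m => ?_
    rw [AddMonoidAlgebra.coeff_single, Finsupp.single_apply]
    split_ifs with hm
    · rw [hm]
    · have := congrArg (fun f : K[T;T⁻¹] => f.coeff m) hcn
      simp only [φ, ← single_eq_C_mul_T, AddMonoidAlgebra.coeff_mapRingHom, AddMonoidAlgebra.coeff_single,
        Finsupp.single_apply, if_neg hm] at this
      exact IsFractionRing.injective A K (this.trans (map_zero _).symm)
  have hC : Prime (LaurentPolynomial.C (q.coeff n)) :=
    Associated.prime ⟨(isUnit_T (R := A) (-n)).unit, by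
      rw [IsUnit.unit_spec]
      conv_lhs => rw [hsupp]
      rw [mul_T_assoc, add_neg_cancel, T_zero, mul_one]⟩ hq
  refine ⟨q.coeff n, hJ q hqJ n, fun h0 => hC.ne_zero (by rw [h0, map_zero]), fun hu => hC.not_unit (hu.map _),
    fun x y hxy => ?_⟩
  refine (hC.dvd_or_dvd (show _ ∣ LaurentPolynomial.C x * LaurentPolynomial.C y by
    rw [← map_mul]; exact map_dvd _ hxy)).imp ?_ ?_ <;>
  · rintro ⟨w, hw⟩
    refine ⟨w.coeff 0, ?_⟩
    have := congrArg (fun f : A[T;T⁻¹] => f.coeff 0) hw
    simpa only [coeff_C_zero, coeff_C_mul] using this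

variable (𝓕 : FiltBl.IdealFiltration A)

theorem irreducible_u [IsDomain A] (h1 : 𝓕.F 1 ≠ ⊤) : Irreducible 𝓕.u := by
  constructor
  · intro hu
    obtain ⟨v, hv⟩ := hu.exists_left_inv
    refine h1 ((Ideal.eq_top_iff_one _).2 ?_)
    have := coe_u_mul_coeff_zero 𝓕 v
    rw [mul_comm, hv] at this
    rw [Subalgebra.coe_one, coeff_one_zero] at this
    exact this
  · intro x y hxy
    have hval : (x : A[T;T⁻¹]) * (y : A[T;T⁻¹]) = T (-1) := (congrArg Subtype.val hxy).symm
    have hxu : IsUnit (x : A[T;T⁻¹]) := isUnit_of_mul_isUnit_left (hval ▸ isUnit_T (-1))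
    have hyu : IsUnit (y : A[T;T⁻¹]) := isUnit_of_mul_isUnit_right (hval ▸ isUnit_T (-1))
    obtain ⟨c, i, hc, hx⟩ := exists_monomial_of_isUnit hxu
    obtain ⟨d, j, hd, hy⟩ := exists_monomial_of_isUnit hyu
    have deg : ∀ (z : 𝓕.extRees) (c : A) (i : ℤ), IsUnit c → (z : A[T;T⁻¹]) = LaurentPolynomial.C c * T i → i ≤ 0 := by
      intro z c i hc hz
      by_contra hi
      have := z.2 i
      rw [hz, ← single_eq_C_mul_T, AddMonoidAlgebra.coeff_single, Finsupp.single_eq_same] at this
      exact h1 (Ideal.eq_top_of_isUnit_mem _ (𝓕.antitone (by omega) this) hc)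
    have unit : ∀ (z : 𝓕.extRees) (c : A), IsUnit c → (z : A[T;T⁻¹]) = LaurentPolynomial.C c * T (0 : ℤ) → IsUnit z := by
      intro z c hc hz
      have : z = algebraMap A 𝓕.extRees c := Subtype.ext (by
        rw [hz, T_zero, mul_one, Subalgebra.coe_algebraMap, LaurentPolynomial.C_eq_algebraMap])
      rw [this]
      exact hc.map _
    have hij : i + j = -1 := by
      have h := congrArg (fun f : A[T;T⁻¹] => f.coeff (i + j)) hval
      simp only [hx, hy, ← single_eq_C_mul_T, AddMonoidAlgebra.single_mul_single, AddMonoidAlgebra.coeff_single,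
        Finsupp.single_eq_same, LaurentPolynomial.T_apply] at h
      by_contra hne
      rw [if_neg (fun h' => hne h'.symm)] at h
      exact (hc.mul hd).ne_zero h
    have := deg x c i hc hx
    have := deg y d j hd hy
    rcases (show i = 0 ∨ j = 0 by omega) with rfl | rfl
    · exact Or.inl (unit x c hc hx)
    · exact Or.inr (unit y d hd hy)

theorem prime_u_iff [IsDomain A] : Prime 𝓕.u ↔ IsDomain 𝓕.Gr := by
  have hne : 𝓕.u ≠ 0 := fun h => (isUnit_T (R := A) (-1)).ne_zero (congrArg Subtype.val h)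
  rw [← Ideal.span_singleton_prime hne]
  exact (Ideal.Quotient.isDomain_iff_prime _).symm

end Groth.Agent.H6FiltBl
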