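import Groth.Agent.H6FiltBl.Transfer
import Groth.Agent.CMPointLib.Basic
import Groth.Agent.CMClosed.Basic
import Groth.Agent.Triage.CMMor
import Groth.Agent.S2092
import Groth.Agent.FlatLoc6.TensorField

/-!
# Cohen–Macaulayness as a local property
-/

universe u

open IsLocalRing
open scoped Pointwise

namespace Groth.Agent.H6FiltBl

theorem isCMLocal_quot {R : Type u} [CommRing R] [IsLocalRing R] [IsNoetherianRing R] {x : R}
    (hx : x ∈ maximalIdeal R) (hreg : IsSMulRegular R x) [h : LocCoh.IsCohenMacaulayLocalRing R] :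
    LocCoh.IsCohenMacaulayLocalRing (R ⧸ Ideal.span {x}) := by
  haveI : Nontrivial (R ⧸ Ideal.span {x}) := Ideal.Quotient.nontrivial_iff.2 fun htop =>
    (maximalIdeal.isMaximal R).ne_top (top_unique (htop ▸ (Ideal.span_singleton_le_iff_mem _).2 hx))
  haveI : IsLocalRing (R ⧸ Ideal.span {x}) := .of_surjective' _ Ideal.Quotient.mk_surjective
  refine { supportDim_eq_depth := ?_ }
  have hmax : (maximalIdeal R).map (Ideal.Quotient.mk (Ideal.span {x})) = maximalIdeal (R ⧸ Ideal.span {x}) :=
    map_maximalIdeal_of_surjective _ Ideal.Quotient.mk_surjective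
  have hspan : Ideal.span {x} = x • (⊤ : Ideal R) := by simp [← Submodule.ideal_span_singleton_smul]
  have h2 : LocCoh.idealDepth (maximalIdeal R) (QuotSMulTop x R) =
      LocCoh.depth (R ⧸ Ideal.span {x}) (R ⧸ Ideal.span {x}) := by
    rw [LocCoh.depth, ← hmax, ← LC.idealDepth_quot_self_le]
    exact LC.idealDepth_congr _ (Submodule.quotEquivOfEq _ _ hspan.symm)
  have h3 := h.supportDim_eq_depth
  rw [Module.supportDim_self_eq_ringKrullDim,
    ← ringKrullDim_quotient_span_singleton_succ_eq_ringKrullDim hreg hx, ← Module.supportDim_self_eq_ringKrullDim] at h3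
  have h4 : ((LocCoh.depth R R : ℕ∞) : WithBot ℕ∞) =
      ((LocCoh.depth (R ⧸ Ideal.span {x}) (R ⧸ Ideal.span {x}) : ℕ∞) : WithBot ℕ∞) + 1 := by
    rw [← h2]
    show ((LocCoh.idealDepth (maximalIdeal R) R : ℕ∞) : WithBot ℕ∞) = _
    rw [← LC.idealDepth_quotSMulTop_add_one (maximalIdeal R) (M := R) hx hreg]
    rfl
  rw [h4] at h3
  exact (((ENat.addLECancellable_natCast 1).withBot)).injective_left h3

theorem localProperty_cm : LocalProperty.{u} (fun R _ => LocCoh.IsCohenMacaulayLocalRing R) where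
  of_ringEquiv := fun hR e => @CMClosed.of_ringEquiv _ _ _ _ e hR
  localization := fun hR p _ => @CMClosed.atPrime _ _ hR p _
  quot_iff := fun x hx hreg => ⟨fun hR => @isCMLocal_quot _ _ _ _ x hx hreg hR,
    fun hR => @CMPointLib.isCMLocal_of_quot _ _ _ _ x hx hreg hR⟩
  descend := fun {R S} _ _ _ _ _ _ _ _ _ hS => ((Triage.CMMor.isCM_iff R S).1 hS).1
  polynomial := fun {R} _ _ _ hR q _ => by
    haveI : LocCoh.IsCohenMacaulayLocalRing R := hR
    haveI : LocCoh.IsCohenMacaulayRing R :=
      { isCohenMacaulayLocalRing_localization := fun p _ => CMClosed.atPrime p }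
    haveI : LocCoh.IsCohenMacaulayRing (Polynomial R) := FlatLoc6.isCM_of_ringEquiv
      (MvPolynomial.uniqueAlgEquiv R (Fin 1)).toRingEquiv (S2092.result 1)
    exact LocCoh.IsCohenMacaulayRing.isCohenMacaulayLocalRing_localization q

end Groth.Agent.H6FiltBl
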