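import Mathlib
import Groth.Prelude.Def_W4c2filtblowupsingRees

/-!
# The extended Rees algebra of a filtration
-/

universe u

open Polynomial LaurentPolynomial

namespace Groth.Agent.H6FiltBl

variable {A : Type u} [CommRing A] (𝓕 : FiltBl.IdealFiltration A)

theorem isSMulRegular_u : IsSMulRegular 𝓕.extRees 𝓕.u := fun a b h => by
  refine Subtype.ext ((isUnit_T (-1 : ℤ)).mul_left_cancel ?_)
  exact congrArg Subtype.val h

theorem u_mem_nonZeroDivisors : 𝓕.u ∈ nonZeroDivisors 𝓕.extRees :=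
  mem_nonZeroDivisors_iff_right.2 fun x hx => isSMulRegular_u 𝓕 (by
    simp only [smul_eq_mul, mul_zero]
    rwa [mul_comm])

theorem coe_u_pow (k : ℕ) : ((𝓕.u ^ k : 𝓕.extRees) : A[T;T⁻¹]) = T (-k : ℤ) := by
  change (T (-1 : ℤ)) ^ k = _
  rw [T_pow]
  congr 1
  ring

theorem coeff_mul_T (f : A[T;T⁻¹]) (m n : ℤ) : (f * T m).coeff n = f.coeff (n - m) := by
  change (f * AddMonoidAlgebra.single m 1).coeff n = _
  rw [AddMonoidAlgebra.coeff_mul_single_apply, mul_one]
  congr 1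

theorem toLaurent_mem {f : A[X]} (hf : f ∈ 𝓕.rees) : toLaurent f ∈ 𝓕.extRees := by
  intro n
  by_cases hn : 0 ≤ n
  · obtain ⟨m, rfl⟩ := Int.eq_ofNat_of_zero_le hn
    have : (toLaurent f).coeff (m : ℤ) = f.coeff m := by
      rw [Polynomial.toLaurent_apply]
      exact Finsupp.mapDomain_apply Nat.cast_injective _ m
    rw [this]
    simpa using hf m
  · have : n.toNat = 0 := by omega
    rw [this, 𝓕.zero_eq]
    exact Submodule.mem_top

/-- The Rees algebra inside the extended Rees algebra. -/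
noncomputable def incl : 𝓕.rees →ₐ[A] 𝓕.extRees :=
  (Polynomial.toLaurentAlg.comp 𝓕.rees.val).codRestrict 𝓕.extRees fun f => toLaurent_mem 𝓕 f.2

theorem finiteType_extRees (hfg : Algebra.FiniteType A 𝓕.rees) : Algebra.FiniteType A 𝓕.extRees := by
  letI : Algebra 𝓕.rees 𝓕.extRees := (incl 𝓕).toRingHom.toAlgebra
  haveI : IsScalarTower A 𝓕.rees 𝓕.extRees := IsScalarTower.of_algebraMap_eq fun a => ((incl 𝓕).commutes a).symm
  haveI : Algebra.FiniteType A (Polynomial 𝓕.rees) := Algebra.FiniteType.trans hfg inferInstance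
  refine Algebra.FiniteType.of_surjective ((Polynomial.aeval (R := 𝓕.rees) 𝓕.u).restrictScalars A) fun f => ?_
  rw [← AlgHom.mem_range]
  let Φ := (Polynomial.aeval (R := 𝓕.rees) 𝓕.u).restrictScalars A
  have key : ∀ (g : A[T;T⁻¹]), g ∈ 𝓕.extRees → ∃ p, ((Φ p : 𝓕.extRees) : A[T;T⁻¹]) = g := by
    intro g hg
    have hsingle : ∀ n : ℤ, ∃ p, ((Φ p : 𝓕.extRees) : A[T;T⁻¹]) = AddMonoidAlgebra.single n (g.coeff n) := by
      intro n
      by_cases hn : 0 ≤ n
      · obtain ⟨m, rfl⟩ := Int.eq_ofNat_of_zero_le hn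
        have hm : Polynomial.monomial m (g.coeff (m : ℤ)) ∈ 𝓕.rees := by
          intro k
          rw [Polynomial.coeff_monomial]
          split_ifs with h
          · subst h
            simpa using hg m
          · exact Ideal.zero_mem _
        refine ⟨Polynomial.C ⟨_, hm⟩, ?_⟩
        have : Φ (Polynomial.C ⟨_, hm⟩) = incl 𝓕 ⟨_, hm⟩ := Polynomial.aeval_C _ _
        rw [this]
        change toLaurent (Polynomial.monomial m (g.coeff (m : ℤ))) = _
        rw [← Polynomial.C_mul_X_pow_eq_monomial, toLaurent_C_mul_X_pow, ← single_eq_C_mul_T]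
      · refine ⟨Polynomial.C (algebraMap A 𝓕.rees (g.coeff n)) * Polynomial.X ^ (-n).toNat, ?_⟩
        simp only [Φ, AlgHom.restrictScalars_apply, map_mul, map_pow, Polynomial.aeval_C, Polynomial.aeval_X,
          Subalgebra.coe_mul, coe_u_pow]
        rw [← IsScalarTower.algebraMap_apply A 𝓕.rees 𝓕.extRees, Subalgebra.coe_algebraMap,
          ← LaurentPolynomial.C_eq_algebraMap, ← single_eq_C_mul_T]
        congr 1
        omega
    choose p hp using hsingle
    refine ⟨∑ n ∈ g.coeff.support, p n, ?_⟩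
    rw [map_sum, AddSubmonoidClass.coe_finsetSum, Finset.sum_congr rfl fun n _ => hp n]
    exact AddMonoidAlgebra.sum_coeff_single g
  obtain ⟨p, hp⟩ := key f f.2
  exact ⟨p, Subtype.ext hp⟩

theorem isLocalization_away_u : IsLocalization.Away 𝓕.u A[T;T⁻¹] := by
  refine (isLocalization_iff _ _).2 ⟨?_, ?_, ?_⟩
  · rintro ⟨_, k, rfl⟩
    change IsUnit ((𝓕.u ^ k : 𝓕.extRees) : A[T;T⁻¹])
    rw [coe_u_pow]
    exact isUnit_T _
  · intro z
    obtain ⟨k, hk⟩ : ∃ k : ℕ, ∀ n ∈ z.coeff.support, n ≤ (k : ℤ) :=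
      ⟨z.coeff.support.sup Int.toNat, fun n hn => (Int.self_le_toNat n).trans (Int.ofNat_le.2 (Finset.le_sup hn))⟩
    have hmem : z * T (-k : ℤ) ∈ 𝓕.extRees := by
      intro n
      rw [coeff_mul_T]
      by_cases h0 : z.coeff (n - -↑k) = 0
      · rw [h0]
        exact Ideal.zero_mem _
      · have := hk _ (Finsupp.mem_support_iff.2 h0)
        have : n.toNat = 0 := by omega
        rw [this, 𝓕.zero_eq]
        exact Submodule.mem_top
    refine ⟨⟨⟨_, hmem⟩, ⟨_, k, rfl⟩⟩, ?_⟩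
    change z * ((𝓕.u ^ k : 𝓕.extRees) : A[T;T⁻¹]) = _
    rw [coe_u_pow]
    rfl
  · intro x y h
    exact ⟨1, by rw [Subtype.ext h]⟩

theorem coe_u_mul_coeff_zero (r : 𝓕.extRees) : ((𝓕.u * r : 𝓕.extRees) : A[T;T⁻¹]).coeff 0 ∈ 𝓕.F 1 := by
  change (T (-1) * (r : A[T;T⁻¹])).coeff 0 ∈ 𝓕.F 1
  rw [T_mul, coeff_mul_T]
  simpa using r.2 1

/-- The ideal of Laurent polynomials with all coefficients in the maximal ideal. -/
noncomputable def coeffMax [IsLocalRing A] : Ideal A[T;T⁻¹] :=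
  RingHom.ker (AddMonoidAlgebra.mapRingHom ℤ (IsLocalRing.residue A))

instance isPrime_coeffMax [IsLocalRing A] : (coeffMax (A := A)).IsPrime := RingHom.ker_isPrime _

theorem mem_coeffMax [IsLocalRing A] (f : A[T;T⁻¹]) :
    f ∈ coeffMax (A := A) ↔ ∀ n, f.coeff n ∈ IsLocalRing.maximalIdeal A := by
  rw [coeffMax, RingHom.mem_ker]
  refine ⟨fun h n => ?_, fun h => LaurentPolynomial.ext fun n => ?_⟩
  · have := congrArg (fun g : (IsLocalRing.ResidueField A)[T;T⁻¹] => g.coeff n) h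
    simpa [IsLocalRing.residue_eq_zero_iff] using this
  · simpa [IsLocalRing.residue_eq_zero_iff] using h n

theorem comap_coeffMax [IsLocalRing A] :
    (coeffMax (A := A)).comap (algebraMap A A[T;T⁻¹]) = IsLocalRing.maximalIdeal A := by
  ext a
  rw [Ideal.mem_comap, mem_coeffMax, ← LaurentPolynomial.C_eq_algebraMap]
  refine ⟨fun h => ?_, fun h n => ?_⟩
  · have h0 := h 0
    rwa [← single_eq_C, AddMonoidAlgebra.coeff_single, Finsupp.single_eq_same] at h0
  · rw [← single_eq_C, AddMonoidAlgebra.coeff_single, Finsupp.single_apply]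
    split_ifs
    · exact h
    · exact Ideal.zero_mem _

/-- A maximal ideal of the extended Rees algebra containing `u` and the contraction of `coeffMax`. -/
theorem exists_isMaximal [IsLocalRing A] (h1 : 𝓕.F 1 ≠ ⊤) :
    ∃ M : Ideal 𝓕.extRees, M.IsMaximal ∧ 𝓕.u ∈ M ∧
      (coeffMax (A := A)).comap (algebraMap 𝓕.extRees A[T;T⁻¹]) ≤ M := by
  have hne : (coeffMax (A := A)).comap (algebraMap 𝓕.extRees A[T;T⁻¹]) ⊔ Ideal.span {𝓕.u} ≠ ⊤ := by
    intro h
    obtain ⟨p, hp, q, hq, hpq⟩ := Submodule.mem_sup.1 ((Ideal.eq_top_iff_one _).1 h)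
    obtain ⟨r, rfl⟩ := Ideal.mem_span_singleton'.1 hq
    have hp0 : (p : A[T;T⁻¹]).coeff 0 ∈ IsLocalRing.maximalIdeal A := (mem_coeffMax _).1 hp 0
    have hq0 : ((r * 𝓕.u : 𝓕.extRees) : A[T;T⁻¹]).coeff 0 ∈ IsLocalRing.maximalIdeal A := by
      rw [mul_comm]
      exact IsLocalRing.le_maximalIdeal h1 (coe_u_mul_coeff_zero 𝓕 r)
    have := congrArg (fun g : 𝓕.extRees => (g : A[T;T⁻¹]).coeff 0) hpq
    simp only [Subalgebra.coe_add, AddMonoidAlgebra.coeff_add, Finsupp.add_apply, Subalgebra.coe_one] at this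
    have h10 : (1 : A[T;T⁻¹]).coeff 0 = 1 := by rw [← single_zero_one_eq_one]; simp
    rw [h10] at this
    exact (IsLocalRing.maximalIdeal.isMaximal A).ne_top
      ((Ideal.eq_top_iff_one _).2 (this ▸ Ideal.add_mem _ hp0 hq0))
  obtain ⟨M, hM, hle⟩ := Ideal.exists_le_maximal _ hne
  exact ⟨M, hM, hle (Submodule.mem_sup_right (Ideal.mem_span_singleton_self _)), le_trans le_sup_left hle⟩

theorem one_ne_top [Nontrivial A] (hsep : ⨅ n, 𝓕.F n = ⊥) : 𝓕.F 1 ≠ ⊤ := by
  intro h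
  have : ∀ n, 𝓕.F n = ⊤ := by
    intro n
    induction n with
    | zero => exact 𝓕.zero_eq
    | succ n ih =>
      refine top_unique ?_
      have := 𝓕.mul_le n 1
      rwa [ih, h, Ideal.top_mul] at this
  simp [this] at hsep

end Groth.Agent.H6FiltBl
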