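import Groth.Agent.H6FiltBl.Transfer
import Groth.Agent.LC.GorRing
import Groth.Agent.LC.GorLoc
import Groth.Agent.LC.GorFlat
import Groth.Agent.S0343

/-!
# Gorensteinness as a local property
-/

universe u

open IsLocalRing

namespace Groth.Agent.H6FiltBl

theorem localProperty_gor : LocalProperty.{u} (fun R _ => LocCoh.IsGorensteinLocalRing R) where
  of_ringEquiv := fun {R S} _ _ hR e => by
    haveI : LocCoh.IsGorensteinLocalRing R := hR
    haveI : IsLocalRing S := e.isLocalRing
    haveI : IsNoetherianRing S := isNoetherianRing_of_ringEquiv R e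
    exact LC.gorenstein_of_ringEquiv e
  localization := fun hR p _ => by
    haveI := hR
    exact LC.gorenstein_localized p
  quot_iff := fun x hx hreg => S0343.result _ x hx hreg
  descend := fun {R S} _ _ _ _ _ _ _ _ _ hS => ((LC.gorenstein_flat_local_iff R S).1 hS).1
  polynomial := fun {R} _ _ _ hR q _ => by
    haveI : LocCoh.IsGorensteinLocalRing R := hR
    haveI : LocCoh.IsGorensteinRing R := LC.gorensteinRing_of_atPrime fun p _ => LC.gorenstein_localized p
    exact (LC.gorensteinRing_polynomial R).isGorensteinLocalRing_localization q

end Groth.Agent.H6FiltBl
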