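import Groth.Agent.H6FiltBl.Sk
import Groth.Agent.Alg6.AssDepth

/-!
# Serre's condition (S_2) for the Rees algebra
-/

set_option backward.isDefEq.respectTransparency false
set_option backward.isDefEq.respectTransparency.types false

universe u

open Polynomial LaurentPolynomial
open scoped Pointwise

namespace Groth.Agent.H6FiltBl

theorem exists_pow_mul_mem {R : Type u} [CommRing R] {I p : Ideal R} (hp : p ∈ I.minimalPrimes) {x : R}
    (hx : x ∈ p) : ∃ s ∉ p, ∃ n : ℕ, s * x ^ n ∈ I := by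
  haveI := hp.isPrime
  have : p.map (algebraMap R (Localization.AtPrime p)) ≤ (I.map (algebraMap _ _)).radical := by
    rw [Ideal.radical_eq_sInf, le_sInf_iff]
    rintro q ⟨hq', hq⟩
    obtain ⟨h₁, h₂⟩ := ((IsLocalization.AtPrime.orderIsoOfPrime _ p) ⟨q, hq⟩).2
    rw [Ideal.map_le_iff_le_comap] at hq' ⊢
    exact hp.2 ⟨h₁, hq'⟩ h₂
  obtain ⟨n, hn⟩ := this (Ideal.mem_map_of_mem _ hx)
  rw [IsLocalization.mem_map_algebraMap_iff (M := p.primeCompl)] at hn
  obtain ⟨⟨a, b⟩, hn⟩ := hn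
  rw [← map_pow, ← map_mul, IsLocalization.eq_iff_exists p.primeCompl] at hn
  obtain ⟨t, ht⟩ := hn
  refine ⟨t * b, (t * b).2, n, ?_⟩
  simp only at ht
  have h : (t : R) * (b : R) * x ^ n = (t : R) * a := by rw [← ht]; ring
  rw [h]
  exact I.mul_mem_left _ a.2

/-- If a subring becomes everything after inverting one of its elements, Serre's condition at a
prime avoiding that element can be read on the big ring. -/
theorem exists_skAt_transfer (k : ℕ) {R : Type u} [CommRing R] (S : Type u) [CommRing S] [Algebra R S]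
    (hinj : Function.Injective (algebraMap R S)) (b : R)
    (hb : ∀ x : S, ∃ (N : ℕ) (r : R), algebraMap R S b ^ N * x = algebraMap R S r)
    (Q : Ideal R) [Q.IsPrime] (hbQ : b ∉ Q) :
    ∃ (Q' : Ideal S) (_ : Q'.IsPrime), Q'.comap (algebraMap R S) = Q ∧ (SkAt k Q ↔ SkAt k Q') := by
  let T := Localization.Away (algebraMap R S b)
  haveI : IsLocalization.Away b T := by
    refine (isLocalization_iff _ _).2 ⟨?_, ?_, ?_⟩
    · rintro ⟨_, n, rfl⟩
      change IsUnit (algebraMap R T (b ^ n))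
      rw [map_pow, IsScalarTower.algebraMap_apply R S T]
      exact (IsLocalization.Away.algebraMap_isUnit (algebraMap R S b)).pow n
    · intro z
      obtain ⟨⟨x, ⟨_, n, rfl⟩⟩, hx⟩ := IsLocalization.surj (Submonoid.powers (algebraMap R S b)) z
      obtain ⟨N, r, hr⟩ := hb x
      refine ⟨⟨r, ⟨b ^ (N + n), N + n, rfl⟩⟩, ?_⟩
      change z * algebraMap R T (b ^ (N + n)) = algebraMap R T r
      rw [IsScalarTower.algebraMap_apply R S T, IsScalarTower.algebraMap_apply R S T, ← hr, map_pow,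
        pow_add, map_mul, map_mul, ← hx]
      ring
    · intro x y h
      rw [IsScalarTower.algebraMap_apply R S T, IsScalarTower.algebraMap_apply R S T] at h
      obtain ⟨⟨_, n, rfl⟩, hn⟩ := IsLocalization.exists_of_eq (M := Submonoid.powers (algebraMap R S b)) h
      refine ⟨⟨b ^ n, n, rfl⟩, hinj ?_⟩
      simpa using hn
  have hdis : Disjoint (Submonoid.powers b : Set R) (Q : Set R) := Set.disjoint_left.2 fun a ha hq => hbQ (by
    obtain ⟨n, rfl⟩ := ha
    exact ‹Q.IsPrime›.mem_of_pow_mem n hq)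
  haveI := IsLocalization.isPrime_of_isPrime_disjoint (Submonoid.powers b) T Q inferInstance hdis
  let QT := Q.map (algebraMap R T)
  have hQ : QT.comap (algebraMap R T) = Q :=
    IsLocalization.comap_map_of_isPrime_disjoint (Submonoid.powers b) T inferInstance hdis
  refine ⟨QT.comap (algebraMap S T), inferInstance, ?_, ?_⟩
  · rw [Ideal.comap_comap, ← IsScalarTower.algebraMap_eq, hQ]
  · rw [← skAt_congr hQ, ← skAt_comap_iff k (Submonoid.powers b) T QT,
      skAt_comap_iff k (Submonoid.powers (algebraMap R S b)) T QT]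

variable {A : Type u} [CommRing A] (𝓕 : FiltBl.IdealFiltration A)

theorem single_mem {n : ℤ} {b : A} (hb : b ∈ 𝓕.F n.toNat) :
    (AddMonoidAlgebra.single n b : A[T;T⁻¹]) ∈ 𝓕.extRees := fun m => by
  rw [AddMonoidAlgebra.coeff_single, Finsupp.single_apply]
  split_ifs with h
  · exact h ▸ hb
  · exact Ideal.zero_mem _

/-- The homogeneous element `b T ^ n`. -/
noncomputable def mon (n : ℤ) (b : A) (hb : b ∈ 𝓕.F n.toNat) : 𝓕.extRees :=
  ⟨AddMonoidAlgebra.single n b, single_mem 𝓕 hb⟩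

theorem coe_mon (n : ℤ) (b : A) (hb : b ∈ 𝓕.F n.toNat) :
    ((mon 𝓕 n b hb : 𝓕.extRees) : A[T;T⁻¹]) = AddMonoidAlgebra.single n b := rfl

theorem mem_F_of_neg {n : ℤ} (hn : n ≤ 0) (b : A) : b ∈ 𝓕.F n.toNat := by
  rw [show n.toNat = 0 by omega, 𝓕.zero_eq]
  exact Submodule.mem_top

theorem algebraMap_eq_mon (c : A) : algebraMap A 𝓕.extRees c = mon 𝓕 0 c (mem_F_of_neg 𝓕 le_rfl c) :=
  Subtype.ext (by rw [Subalgebra.coe_algebraMap, ← LaurentPolynomial.C_eq_algebraMap, coe_mon, single_eq_C])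

theorem u_mul_mon (n : ℤ) (b : A) (hb : b ∈ 𝓕.F n.toNat) (hb' : b ∈ 𝓕.F (n - 1).toNat) :
    𝓕.u * mon 𝓕 n b hb = mon 𝓕 (n - 1) b hb' := Subtype.ext (by
  change AddMonoidAlgebra.single (-1 : ℤ) 1 * AddMonoidAlgebra.single n b = AddMonoidAlgebra.single (n - 1) b
  rw [AddMonoidAlgebra.single_mul_single, one_mul, neg_add_eq_sub])

theorem eq_sum_mon (x : 𝓕.extRees) :
    x = ∑ n ∈ (x : A[T;T⁻¹]).coeff.support, mon 𝓕 n ((x : A[T;T⁻¹]).coeff n) (x.2 n) := by
  refine Subtype.ext ?_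
  rw [AddSubmonoidClass.coe_finsetSum]
  exact (AddMonoidAlgebra.sum_coeff_single (x : A[T;T⁻¹])).symm

/-- A prime containing `u` and the positive part has height at least two. -/
theorem two_le_height [IsNoetherianRing A] [IsNoetherianRing 𝓕.extRees] {a : A} (ha : a ∈ 𝓕.F 1)
    (hreg : IsSMulRegular A a) (P : Ideal 𝓕.extRees) [P.IsPrime] (huP : 𝓕.u ∈ P)
    (hpos : ∀ (n : ℤ) (b : A) (hb : b ∈ 𝓕.F n.toNat), 0 < n → mon 𝓕 n b hb ∈ P) : 2 ≤ P.height := by
  by_contra hlt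
  have hle : P.height ≤ 1 := (ENat.lt_add_one_iff ENat.one_ne_top).1 (by rw [one_add_one_eq_two]; exact not_le.1 hlt)
  let a' := algebraMap A 𝓕.extRees a
  have haP : a' ∈ P := by
    have h := u_mul_mon 𝓕 1 a (by simpa using ha) (mem_F_of_neg 𝓕 (by omega) a)
    simp only [sub_self] at h
    change algebraMap A 𝓕.extRees a ∈ P
    rw [algebraMap_eq_mon, ← h]
    exact P.mul_mem_right _ huP
  have hreg' : a' ∈ nonZeroDivisors 𝓕.extRees := by
    refine mem_nonZeroDivisors_iff_right.2 fun x hx => Subtype.ext (LaurentPolynomial.ext fun n => ?_)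
    have h := congrArg (fun y : 𝓕.extRees => (y : A[T;T⁻¹]).coeff n) hx
    simp only [a', Subalgebra.coe_mul, Subalgebra.coe_algebraMap, ← LaurentPolynomial.C_eq_algebraMap,
      Subalgebra.coe_zero, AddMonoidAlgebra.coeff_zero, Finsupp.zero_apply] at h
    rw [← single_eq_C, AddMonoidAlgebra.coeff_mul_single_zero, mul_comm] at h
    exact hreg.right_eq_zero_of_smul h
  haveI : P.FiniteHeight := Ideal.finiteHeight_of_isNoetherianRing P
  have hmin : P ∈ (Ideal.span {a'}).minimalPrimes :=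
    Ideal.mem_minimalPrimes_of_height_le ((Ideal.span_singleton_le_iff_mem _).2 haP)
      (hle.trans (Ideal.one_le_height_span_singleton_of_mem_nonZeroDivisors hreg'))
  obtain ⟨s, hs, k, hk⟩ := exists_pow_mul_mem hmin huP
  obtain ⟨r, hr⟩ := Ideal.mem_span_singleton'.1 hk
  have hs0 : algebraMap A 𝓕.extRees ((s : A[T;T⁻¹]).coeff 0) ∈ P := by
    have h := congrArg (fun y : 𝓕.extRees => (y : A[T;T⁻¹]).coeff (-(k : ℤ))) hr
    simp only [a', Subalgebra.coe_mul, Subalgebra.coe_algebraMap, coe_u_pow] at h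
    rw [coeff_mul_T, sub_self, ← LaurentPolynomial.C_eq_algebraMap, ← single_eq_C,
      AddMonoidAlgebra.coeff_mul_single_zero] at h
    rw [← h, map_mul]
    exact P.mul_mem_left _ haP
  refine hs ?_
  rw [eq_sum_mon 𝓕 s]
  refine Ideal.sum_mem _ fun n _ => ?_
  rcases lt_trichotomy n 0 with hn | hn | hn
  · rw [show mon 𝓕 n ((s : A[T;T⁻¹]).coeff n) (s.2 n) =
        𝓕.u * mon 𝓕 (n + 1) ((s : A[T;T⁻¹]).coeff n) (mem_F_of_neg 𝓕 (by omega) _) from Subtype.ext (by
      change _ = AddMonoidAlgebra.single (-1 : ℤ) 1 * AddMonoidAlgebra.single (n + 1) _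
      rw [AddMonoidAlgebra.single_mul_single, one_mul, coe_mon]
      congr 1
      omega)]
    exact P.mul_mem_right _ huP
  · subst hn
    rwa [algebraMap_eq_mon] at hs0
  · exact hpos n _ _ hn

/-- An element of `F` is detected by multiplication with the positive part. -/
theorem mem_of_pos_mul_mem [IsNoetherianRing A] [IsNoetherianRing 𝓕.extRees]
    (h : LocCoh.HasSk 2 𝓕.extRees 𝓕.extRees) {a : A} (ha : a ∈ 𝓕.F 1) (hreg : IsSMulRegular A a)
    (g : A) (n : ℕ) (hg : ∀ d : ℕ, 0 < d → ∀ b ∈ 𝓕.F d, b * g ∈ 𝓕.F (n + d)) : g ∈ 𝓕.F n := by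
  suffices ∀ m, m ≤ n → g ∈ 𝓕.F m from this n le_rfl
  intro m
  induction m with
  | zero => intro; rw [𝓕.zero_eq]; exact Submodule.mem_top
  | succ m ih =>
    intro hm
    have hgm := ih (by omega)
    by_contra hnot
    let x := mon 𝓕 (m : ℤ) g (by simpa using hgm)
    let xbar : QuotSMulTop 𝓕.u 𝓕.extRees := Submodule.Quotient.mk x
    have hx0 : xbar ≠ 0 := by
      intro h0
      obtain ⟨y, -, hy⟩ := (Submodule.Quotient.mk_eq_zero _).1 h0
      apply hnot
      have hy' := congrArg (fun z : 𝓕.extRees => (z : A[T;T⁻¹]).coeff (m : ℤ)) hy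
      change ((𝓕.u * y : 𝓕.extRees) : A[T;T⁻¹]).coeff (m : ℤ) = (AddMonoidAlgebra.single (m : ℤ) g).coeff (m : ℤ) at hy'
      rw [AddMonoidAlgebra.coeff_single, Finsupp.single_eq_same] at hy'
      rw [← hy']
      change (T (-1) * (y : A[T;T⁻¹])).coeff (m : ℤ) ∈ _
      rw [T_mul, coeff_mul_T]
      have := y.2 ((m : ℤ) - -1)
      rwa [show ((m : ℤ) - -1).toNat = m + 1 by omega] at this
    obtain ⟨P, hP, hle⟩ := exists_le_isAssociatedPrime_of_isNoetherianRing (R := 𝓕.extRees) xbar hx0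
    haveI := hP.isPrime
    have hmem : ∀ r : 𝓕.extRees, r * x ∈ (𝓕.u • ⊤ : Ideal 𝓕.extRees) → r ∈ P := by
      intro r hr
      refine hle ?_
      rw [Submodule.mem_colon_singleton, Submodule.mem_bot]
      change Submodule.Quotient.mk (r * x) = 0
      exact (Submodule.Quotient.mk_eq_zero _).2 hr
    have huP : 𝓕.u ∈ P := hmem _ ⟨x, trivial, rfl⟩
    have h2 : 2 ≤ P.height := by
      refine two_le_height 𝓕 ha hreg P huP fun d b hb hd => hmem _ ?_
      have hbd : b * g ∈ 𝓕.F (d + (m : ℤ) + 1).toNat :=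
        𝓕.antitone (by omega) (hg d.toNat (by omega) b hb)
      refine ⟨mon 𝓕 (d + m + 1) (b * g) hbd, trivial, ?_⟩
      refine Subtype.ext ?_
      change AddMonoidAlgebra.single (-1 : ℤ) 1 * AddMonoidAlgebra.single (d + m + 1) (b * g) =
        AddMonoidAlgebra.single d b * AddMonoidAlgebra.single (m : ℤ) g
      rw [AddMonoidAlgebra.single_mul_single, AddMonoidAlgebra.single_mul_single, one_mul]
      congr 1
      omega
    have h1 := FlatLoc6.height_le_one_of_mem_ass_quot h (isSMulRegular_u 𝓕) huP hP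
    exact absurd (h2.trans h1) (by decide)

theorem incl_apply (f : 𝓕.rees) : ((incl 𝓕 f : 𝓕.extRees) : A[T;T⁻¹]) = toLaurent (f : A[X]) := rfl

theorem monomial_mem {d : ℕ} {b : A} (hb : b ∈ 𝓕.F d) : Polynomial.monomial d b ∈ 𝓕.rees := fun n => by
  rw [Polynomial.coeff_monomial]
  split_ifs with h
  · exact h ▸ hb
  · exact Ideal.zero_mem _

theorem exists_mul_mem_rees {d : ℕ} (hd : 0 < d) {b : A} (hb : b ∈ 𝓕.F d) (x : 𝓕.extRees) :
    ∃ (N : ℕ) (r : 𝓕.rees), incl 𝓕 ⟨_, monomial_mem 𝓕 hb⟩ ^ N * x = incl 𝓕 r := by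
  obtain ⟨n, f, hf⟩ := exists_T_pow (x : A[T;T⁻¹])
  obtain ⟨j, hj⟩ := Nat.exists_eq_add_of_le (Nat.le_mul_of_pos_left n hd)
  have hpow : ((incl 𝓕 ⟨_, monomial_mem 𝓕 hb⟩ ^ n : 𝓕.extRees) : A[T;T⁻¹]) =
      LaurentPolynomial.C (b ^ n) * T (d * n : ℕ) := by
    rw [Subalgebra.coe_pow, incl_apply, ← map_pow, Polynomial.monomial_pow, ← Polynomial.C_mul_X_pow_eq_monomial,
      toLaurent_C_mul_X_pow]
  have heq : toLaurent (Polynomial.C (b ^ n) * (Polynomial.X ^ j * f)) =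
      ((incl 𝓕 ⟨_, monomial_mem 𝓕 hb⟩ ^ n * x : 𝓕.extRees) : A[T;T⁻¹]) := by
    rw [Subalgebra.coe_mul, hpow, map_mul, map_mul, toLaurent_C, toLaurent_X_pow, hf, hj, Nat.cast_add, T_add]
    ring
  have hmem : Polynomial.C (b ^ n) * (Polynomial.X ^ j * f) ∈ 𝓕.rees := by
    intro m
    have h := (incl 𝓕 ⟨_, monomial_mem 𝓕 hb⟩ ^ n * x).2 (m : ℤ)
    rw [← heq, Polynomial.toLaurent_apply] at h
    rw [Int.toNat_natCast] at h
    convert h using 1
    exact (Finsupp.mapDomain_apply Nat.cast_injective _ m).symm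
  refine ⟨n, ⟨_, hmem⟩, Subtype.ext ?_⟩
  rw [incl_apply]
  exact heq.symm

theorem exists_mul_mem_rees' {a : A} (ha : a ∈ 𝓕.F 1) (f : A[X]) :
    ∃ (N : ℕ) (r : 𝓕.rees),
      algebraMap 𝓕.rees A[X] (algebraMap A 𝓕.rees a) ^ N * f = algebraMap 𝓕.rees A[X] r := by
  have h0 : algebraMap 𝓕.rees A[X] (algebraMap A 𝓕.rees a) = Polynomial.C a :=
    (IsScalarTower.algebraMap_apply A 𝓕.rees A[X] a).symm
  suffices hmem : Polynomial.C (a ^ f.natDegree) * f ∈ 𝓕.rees by
    refine ⟨f.natDegree, ⟨_, hmem⟩, ?_⟩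
    rw [h0, ← map_pow]
    rfl
  intro n
  rw [Polynomial.coeff_C_mul]
  rcases le_or_gt n f.natDegree with hn | hn
  · refine Ideal.mul_mem_right _ _ ?_
    have key : ∀ j, a ^ j ∈ 𝓕.F j := by
      intro j
      induction j with
      | zero => rw [pow_zero, 𝓕.zero_eq]; exact Submodule.mem_top
      | succ j ih => rw [pow_succ]; exact 𝓕.mul_le j 1 (Ideal.mul_mem_mul ih ha)
    exact 𝓕.antitone hn (key _)
  · rw [Polynomial.coeff_eq_zero_of_natDegree_lt hn, mul_zero]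
    exact Ideal.zero_mem _

theorem isSMulRegular_algebraMap_rees {a : A} (hreg : IsSMulRegular A a) :
    IsSMulRegular 𝓕.rees (algebraMap A 𝓕.rees a) := fun f g hfg => Subtype.ext (Polynomial.ext fun n => by
  have h1 := congrArg (fun z : 𝓕.rees => (z : A[X]).coeff n) hfg
  simp only [smul_eq_mul, Subalgebra.coe_mul, Subalgebra.coe_algebraMap, Polynomial.algebraMap_eq,
    Polynomial.coeff_C_mul] at h1
  exact hreg h1)

theorem notMem_ass_quot {R : Type u} [CommRing R] [IsNoetherianRing R] (a : R) (Q : Ideal R)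
    (H : ∀ f : R, (∀ r ∈ Q, r * f ∈ Ideal.span {a}) → f ∈ Ideal.span {a}) :
    Q ∉ associatedPrimes R (QuotSMulTop a R) := by
  intro hQ
  obtain ⟨hQp, x, hx⟩ := isAssociatedPrime_iff.1 hQ
  obtain ⟨f, rfl⟩ := Submodule.Quotient.mk_surjective _ x
  have key : ∀ g : R, (Submodule.Quotient.mk g : QuotSMulTop a R) = 0 ↔ g ∈ Ideal.span {a} := fun g => by
    rw [Submodule.Quotient.mk_eq_zero, ← Submodule.ideal_span_singleton_smul, Ideal.smul_eq_mul, Ideal.mul_top]
  have hf : f ∈ Ideal.span {a} := H f fun r hr => (key _).1 (by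
    rw [hx, Submodule.mem_colon_singleton, Submodule.mem_bot] at hr
    exact hr)
  refine hQp.ne_top ((Ideal.eq_top_iff_one _).2 ?_)
  rw [hx, Submodule.mem_colon_singleton, Submodule.mem_bot, one_smul]
  exact (key f).2 hf

theorem mem_span_of_mul_mem [IsNoetherianRing A] [IsNoetherianRing 𝓕.extRees]
    (h : LocCoh.HasSk 2 𝓕.extRees 𝓕.extRees) {a : A} (ha : a ∈ 𝓕.F 1) (hreg : IsSMulRegular A a)
    {c : A} (hc : c ∈ 𝓕.F 1) (hcreg : IsSMulRegular (QuotSMulTop a A) c) (f : 𝓕.rees)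
    (hcf : algebraMap A 𝓕.rees c * f ∈ Ideal.span {algebraMap A 𝓕.rees a})
    (hbf : ∀ (d : ℕ), 0 < d → ∀ (b : A) (hb : b ∈ 𝓕.F d),
      (⟨_, monomial_mem 𝓕 hb⟩ : 𝓕.rees) * f ∈ Ideal.span {algebraMap A 𝓕.rees a}) :
    f ∈ Ideal.span {algebraMap A 𝓕.rees a} := by
  have coeff_eq : ∀ y : 𝓕.rees, ∀ n, ((y * algebraMap A 𝓕.rees a : 𝓕.rees) : A[X]).coeff n = a * (y : A[X]).coeff n :=
    fun y n => by
    rw [Subalgebra.coe_mul, Subalgebra.coe_algebraMap, Polynomial.algebraMap_eq, Polynomial.coeff_mul_C, mul_comm]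
  have hdvd : ∀ n, a ∣ (f : A[X]).coeff n := by
    intro n
    obtain ⟨y, hy⟩ := Ideal.mem_span_singleton'.1 hcf
    have h1 := congrArg (fun z : 𝓕.rees => (z : A[X]).coeff n) hy
    simp only [coeff_eq, Subalgebra.coe_mul (x := algebraMap A 𝓕.rees c), Subalgebra.coe_algebraMap,
      Polynomial.algebraMap_eq, Polynomial.coeff_C_mul] at h1
    have h2 : (Submodule.Quotient.mk ((f : A[X]).coeff n) : QuotSMulTop a A) = 0 := by
      refine hcreg.right_eq_zero_of_smul ?_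
      rw [← Submodule.Quotient.mk_smul, Submodule.Quotient.mk_eq_zero]
      exact ⟨(y : A[X]).coeff n, trivial, h1⟩
    obtain ⟨g, -, hg⟩ := (Submodule.Quotient.mk_eq_zero _).1 h2
    exact ⟨g, hg.symm⟩
  obtain ⟨g, hg⟩ := (Polynomial.C_dvd_iff_dvd_coeff a (f : A[X])).2 hdvd
  have hgn : ∀ n, (f : A[X]).coeff n = a * g.coeff n := fun n => by rw [hg, Polynomial.coeff_C_mul]
  have hgmem : g ∈ 𝓕.rees := by
    intro n
    refine mem_of_pos_mul_mem 𝓕 h ha hreg _ _ fun d hd b hb => ?_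
    obtain ⟨y, hy⟩ := Ideal.mem_span_singleton'.1 (hbf d hd b hb)
    have h1 := congrArg (fun z : 𝓕.rees => (z : A[X]).coeff (n + d)) hy
    simp only [coeff_eq, Subalgebra.coe_mul (x := (⟨_, monomial_mem 𝓕 hb⟩ : 𝓕.rees)),
      Polynomial.coeff_monomial_mul, hgn] at h1
    have h2 : (y : A[X]).coeff (n + d) = b * g.coeff n := hreg (h1.trans (by change _ = a * _; ring))
    rw [← h2]
    exact y.2 (n + d)
  refine Ideal.mem_span_singleton'.2 ⟨⟨g, hgmem⟩, Subtype.ext ?_⟩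
  rw [Subalgebra.coe_mul, Subalgebra.coe_algebraMap, Polynomial.algebraMap_eq, hg, mul_comm]

theorem hasSk_two_rees [IsNoetherianRing A] [IsLocalRing A] [IsNoetherianRing 𝓕.extRees] [IsNoetherianRing 𝓕.rees]
    (hht : 2 ≤ (𝓕.F 1).height) (h : LocCoh.HasSk 2 𝓕.extRees 𝓕.extRees) : LocCoh.HasSk 2 𝓕.rees 𝓕.rees := by
  classical
  have hA : LocCoh.HasSk 2 A A := ((hasSk_extRees_iff 𝓕 1).1 h).2
  obtain ⟨a, ha, hreg⟩ := (Alg6.exists_isSMulRegular_mem_iff (M := A) (𝓕.F 1)).2 fun p hp hle => by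
    haveI := hp.isPrime
    have h0 := FlatLoc6.height_eq_zero_of_mem_ass (FlatLoc6.hasSk_one_of_two hA) hp
    exact absurd ((hht.trans (Ideal.height_mono hle)).trans h0.le) (by decide)
  obtain ⟨c, hc, hcreg⟩ := (Alg6.exists_isSMulRegular_mem_iff (M := QuotSMulTop a A) (𝓕.F 1)).2 fun p hp hle => by
    haveI := hp.isPrime
    have hap : a ∈ p := hle ha
    have h1 := FlatLoc6.height_le_one_of_mem_ass_quot hA hreg hap hp
    exact absurd ((hht.trans (Ideal.height_mono hle)).trans h1) (by decide)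
  rw [FlatLoc6.hasSk_self_iff]
  intro Q _
  show SkAt 2 Q
  by_cases hpos : ∀ d : ℕ, 0 < d → ∀ b : A, ∀ hb : b ∈ 𝓕.F d, (⟨_, monomial_mem 𝓕 hb⟩ : 𝓕.rees) ∈ Q
  swap
  · push Not at hpos
    obtain ⟨d, hd, b, hb, hbQ⟩ := hpos
    letI : Algebra 𝓕.rees 𝓕.extRees := (incl 𝓕).toRingHom.toAlgebra
    obtain ⟨Q', hQ', -, hiff⟩ := exists_skAt_transfer 2 𝓕.extRees
      (fun x y hxy => Subtype.ext (Polynomial.toLaurent_injective (congrArg Subtype.val hxy)))
      ⟨_, monomial_mem 𝓕 hb⟩ (exists_mul_mem_rees 𝓕 hd hb) Q hbQ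
    exact hiff.2 ((FlatLoc6.hasSk_self_iff 2).1 h Q')
  by_cases hF : 𝓕.F 1 ≤ Q.comap (algebraMap A 𝓕.rees)
  swap
  · obtain ⟨e, he, heQ⟩ := SetLike.not_le_iff_exists.1 hF
    have hinj : Function.Injective (algebraMap 𝓕.rees A[X]) := Subtype.val_injective
    obtain ⟨Q', hQ', -, hiff⟩ := exists_skAt_transfer 2 A[X] hinj
      (algebraMap A 𝓕.rees e) (exists_mul_mem_rees' 𝓕 he) Q heQ
    exact hiff.2 (skAt_polynomial 2 Q' fun p _ => (FlatLoc6.hasSk_self_iff 2).1 hA p)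
  refine le_trans (min_le_left _ _) ?_
  rw [← FlatLoc6.depth_self_atPrime, Nat.cast_ofNat]
  have hreg' : IsSMulRegular 𝓕.rees (algebraMap A 𝓕.rees a) := isSMulRegular_algebraMap_rees 𝓕 hreg
  rw [Alg6.two_le_depth_atPrime_iff Q (hF ha) hreg']
  refine notMem_ass_quot (algebraMap A 𝓕.rees a) Q fun f hf => ?_
  exact mem_span_of_mul_mem 𝓕 h ha hreg hc hcreg f (hf _ (hF hc))
    (fun d hd b hb => hf _ (hpos d hd b hb))

end Groth.Agent.H6FiltBl
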