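import Groth.Agent.H6FiltBl.Transfer
import Groth.Agent.CMPointLib.Basic
import Groth.Agent.FlatLoc6.NormalAscent
import Groth.Agent.FlatLoc6.FiberSelf
import Groth.Agent.FlatLoc6.SerreNormal
import Groth.Agent.FlatLoc6.RegCM
import Groth.Agent.FlatLoc6.TensorField
import Groth.Agent.S2092

/-!
# Serre's conditions for the extended Rees algebra
-/

set_option backward.isDefEq.respectTransparency false
set_option backward.isDefEq.respectTransparency.types false

universe u

open IsLocalRing Polynomial LaurentPolynomial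
open scoped Pointwise

namespace Groth.Agent.H6FiltBl

/-- Serre's inequality at a prime. -/
def SkAt (k : ℕ) {R : Type u} [CommRing R] (p : Ideal R) [p.IsPrime] : Prop :=
  min (k : ℕ∞) p.height ≤ LocCoh.depth (Localization.AtPrime p) (Localization.AtPrime p)

theorem skAt_congr {k : ℕ} {R : Type u} [CommRing R] {p q : Ideal R} [p.IsPrime] [q.IsPrime] (h : p = q) :
    SkAt k p ↔ SkAt k q := by
  subst h
  rfl

theorem depth_eq_of_ringEquiv {R S : Type u} [CommRing R] [CommRing S] [IsLocalRing R] [IsLocalRing S]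
    (e : R ≃+* S) : LocCoh.depth R R = LocCoh.depth S S :=
  Alg6.depth_eq_of_semilinear e.toRingHom e.surjective e.toAddEquiv (fun r z => map_mul e r z)

theorem skAt_comap_iff (k : ℕ) {R : Type u} [CommRing R] (M : Submonoid R) (S : Type u)
    [CommRing S] [Algebra R S] [IsLocalization M S] (Q : Ideal S) [Q.IsPrime] :
    SkAt k Q ↔ SkAt k (Q.comap (algebraMap R S)) := by
  haveI : IsLocalization.AtPrime (Localization.AtPrime Q) (Q.comap (algebraMap R S)) :=
    IsLocalization.isLocalization_isLocalization_atPrime_isLocalization M (Localization.AtPrime Q) Q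
  let e := (IsLocalization.algEquiv (Q.comap (algebraMap R S)).primeCompl (Localization.AtPrime Q)
    (Localization.AtPrime (Q.comap (algebraMap R S)))).toRingEquiv
  have hh : Q.height = (Q.comap (algebraMap R S)).height := by
    have h := ringKrullDim_eq_of_ringEquiv e
    rw [IsLocalization.AtPrime.ringKrullDim_eq_height Q, IsLocalization.AtPrime.ringKrullDim_eq_height
      (Q.comap (algebraMap R S))] at h
    exact WithBot.coe_injective h
  unfold SkAt
  rw [hh, depth_eq_of_ringEquiv e]

theorem depth_height_quot {S : Type u} [CommRing S] [IsNoetherianRing S] {f : S}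
    (hf : f ∈ nonZeroDivisors S) (n : Ideal (S ⧸ Ideal.span {f})) [n.IsPrime] :
    LocCoh.depth (Localization.AtPrime (n.comap (Ideal.Quotient.mk (Ideal.span {f}))))
        (Localization.AtPrime (n.comap (Ideal.Quotient.mk (Ideal.span {f})))) =
      LocCoh.depth (Localization.AtPrime n) (Localization.AtPrime n) + 1 ∧
    (n.comap (Ideal.Quotient.mk (Ideal.span {f}))).height = n.height + 1 := by
  obtain ⟨hreg, hx, ⟨e⟩⟩ := exists_quot_equiv hf n
  let p := n.comap (Ideal.Quotient.mk (Ideal.span {f}))
  let x := algebraMap S (Localization.AtPrime p) f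
  haveI : IsNoetherianRing (Localization.AtPrime p) := IsLocalization.isNoetherianRing p.primeCompl _ inferInstance
  haveI : IsLocalRing (Localization.AtPrime p ⧸ Ideal.span {x}) := e.isLocalRing
  constructor
  · rw [depth_eq_of_ringEquiv e]
    have hmax : (maximalIdeal (Localization.AtPrime p)).map (Ideal.Quotient.mk (Ideal.span {x})) =
        maximalIdeal (Localization.AtPrime p ⧸ Ideal.span {x}) :=
      map_maximalIdeal_of_surjective _ Ideal.Quotient.mk_surjective
    have hspan : Ideal.span {x} = x • (⊤ : Ideal (Localization.AtPrime p)) := by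
      simp [← Submodule.ideal_span_singleton_smul]
    have h2 : LocCoh.idealDepth (maximalIdeal (Localization.AtPrime p)) (QuotSMulTop x (Localization.AtPrime p)) =
        LocCoh.depth (Localization.AtPrime p ⧸ Ideal.span {x}) (Localization.AtPrime p ⧸ Ideal.span {x}) := by
      rw [LocCoh.depth, ← hmax, ← LC.idealDepth_quot_self_le]
      exact LC.idealDepth_congr _ (Submodule.quotEquivOfEq _ _ hspan.symm)
    rw [← h2]
    exact (LC.idealDepth_quotSMulTop_add_one (maximalIdeal _) (M := Localization.AtPrime p) hx hreg).symm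
  · have h := ringKrullDim_quotient_span_singleton_succ_eq_ringKrullDim hreg hx
    rw [← ringKrullDim_eq_of_ringEquiv e, IsLocalization.AtPrime.ringKrullDim_eq_height n,
      IsLocalization.AtPrime.ringKrullDim_eq_height p] at h
    exact (WithBot.coe_injective h).symm

theorem skAt_quot_iff (k : ℕ) {S : Type u} [CommRing S] [IsNoetherianRing S] {f : S}
    (hf : f ∈ nonZeroDivisors S) (n : Ideal (S ⧸ Ideal.span {f})) [n.IsPrime] :
    SkAt (k + 1) (n.comap (Ideal.Quotient.mk (Ideal.span {f}))) ↔ SkAt k n := by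
  obtain ⟨h1, h2⟩ := depth_height_quot hf n
  unfold SkAt
  rw [h1, h2, Nat.cast_add, Nat.cast_one, min_add_add_right]
  exact ENat.add_le_add_iff_right ENat.one_ne_top

theorem skAt_polynomial (k : ℕ) {A : Type u} [CommRing A] [IsNoetherianRing A] (q : Ideal A[X]) [q.IsPrime]
    (h : ∀ (p : Ideal A) [p.IsPrime], SkAt k p) : SkAt k q := by
  let p := q.comap (algebraMap A A[X])
  haveI : LocCoh.IsCohenMacaulayRing (p.Fiber A[X]) :=
    FlatLoc6.isCM_of_ringEquiv (polyEquivTensor' A p.ResidueField).toRingEquiv (FlatLoc6.isCM_of_isRegularRing _)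
  refine FlatLoc6.sk_self_ascend k q ?_ (h p)
  rw [FlatLoc6.fib_eq_of_fiber_isCM p q rfl]
  exact min_le_right _ _

/-- Serre's condition descends along a flat map all of whose primes of the base are hit. -/
theorem skAt_descend (k : ℕ) {A B : Type u} [CommRing A] [CommRing B] [IsNoetherianRing A] [IsNoetherianRing B]
    [Algebra A B] [Module.Flat A B] (p : Ideal A) [p.IsPrime] (q' : Ideal B) [q'.IsPrime]
    (hle : p ≤ q'.comap (algebraMap A B)) (h : ∀ (q : Ideal B) [q.IsPrime], SkAt k q) : SkAt k p := by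
  obtain ⟨P, hP, -, hPp, hd, hdep⟩ := FlatLoc6.exists_fib_zero_le q' p hle
  obtain ⟨h1, h2⟩ := FlatLoc6.formulas_self p P hPp
  rw [hdep, add_zero] at h1
  rw [hd, add_zero] at h2
  have := h P
  unfold SkAt at this ⊢
  rwa [h1, WithBot.coe_injective h2] at this

variable {A : Type u} [CommRing A] [IsNoetherianRing A] [IsLocalRing A] (𝓕 : FiltBl.IdealFiltration A)

theorem hasSk_extRees_iff (k : ℕ) [IsNoetherianRing 𝓕.extRees] :
    LocCoh.HasSk (k + 1) 𝓕.extRees 𝓕.extRees ↔ (LocCoh.HasSk k 𝓕.Gr 𝓕.Gr ∧ LocCoh.HasSk (k + 1) A A) := by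
  haveI : IsNoetherianRing 𝓕.Gr := Ideal.Quotient.isNoetherianRing _
  haveI := isLocalization_away_u 𝓕
  haveI : IsNoetherianRing A[T;T⁻¹] := IsLocalization.isNoetherianRing (Submonoid.powers 𝓕.u) _ inferInstance
  rw [FlatLoc6.hasSk_self_iff, FlatLoc6.hasSk_self_iff, FlatLoc6.hasSk_self_iff]
  constructor
  · intro h
    refine ⟨fun n _ => ((skAt_quot_iff k (u_mem_nonZeroDivisors 𝓕) n).1 (h _)), fun p _ => ?_⟩
    refine skAt_descend (k + 1) (B := A[T;T⁻¹]) p (coeffMax (A := A)) ?_ fun Q _ => ?_
    · rw [comap_coeffMax]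
      exact IsLocalRing.le_maximalIdeal ‹p.IsPrime›.ne_top
    · exact (skAt_comap_iff (k + 1) (Submonoid.powers 𝓕.u) A[T;T⁻¹] Q).2 (h _)
  · rintro ⟨hG, hA⟩ P _
    show SkAt (k + 1) P
    by_cases huP : 𝓕.u ∈ P
    · have hker : RingHom.ker (Ideal.Quotient.mk (Ideal.span {𝓕.u})) ≤ P := by
        rw [Ideal.mk_ker, Ideal.span_singleton_le_iff_mem]
        exact huP
      let n := P.map (Ideal.Quotient.mk (Ideal.span {𝓕.u}))
      haveI : n.IsPrime := Ideal.map_isPrime_of_surjective Ideal.Quotient.mk_surjective hker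
      have hn : n.comap (Ideal.Quotient.mk (Ideal.span {𝓕.u})) = P := by
        rw [Ideal.comap_map_of_surjective _ Ideal.Quotient.mk_surjective]
        exact sup_eq_left.2 hker
      rw [← skAt_congr hn, skAt_quot_iff k (u_mem_nonZeroDivisors 𝓕) n]
      exact hG n
    · have hdis : Disjoint (Submonoid.powers 𝓕.u : Set 𝓕.extRees) (P : Set 𝓕.extRees) :=
        Set.disjoint_left.2 fun a ha hb => huP (by
          obtain ⟨j, rfl⟩ := ha
          exact ‹P.IsPrime›.mem_of_pow_mem j hb)
      haveI := IsLocalization.isPrime_of_isPrime_disjoint (Submonoid.powers 𝓕.u) A[T;T⁻¹] P inferInstance hdis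
      rw [← skAt_congr (IsLocalization.comap_map_of_isPrime_disjoint (Submonoid.powers 𝓕.u) A[T;T⁻¹] inferInstance hdis),
        ← skAt_comap_iff (k + 1) (Submonoid.powers 𝓕.u) A[T;T⁻¹],
        skAt_comap_iff (k + 1) (Submonoid.powers (Polynomial.X : A[X])) A[T;T⁻¹]]
      exact skAt_polynomial (k + 1) _ fun p _ => hA p

end Groth.Agent.H6FiltBl
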