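import Groth.Agent.H6FiltBl.CM
import Groth.Agent.H6FiltBl.Sk
import Groth.Agent.H6FiltBl.ReesSk

/-!
# Cohen–Macaulayness off the positive part
-/

set_option backward.isDefEq.respectTransparency false
set_option backward.isDefEq.respectTransparency.types false

universe u

open IsLocalRing Polynomial LaurentPolynomial

namespace Groth.Agent.H6FiltBl

theorem isCM_polynomial_atPrime {A : Type u} [CommRing A] [IsNoetherianRing A] (Q : Ideal A[X]) [Q.IsPrime]
    (h : LocCoh.IsCohenMacaulayLocalRing (Localization.AtPrime (Q.comap (algebraMap A A[X])))) :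
    LocCoh.IsCohenMacaulayLocalRing (Localization.AtPrime Q) := by
  let p := Q.comap (algebraMap A A[X])
  haveI : LocCoh.IsCohenMacaulayRing (p.Fiber A[X]) :=
    FlatLoc6.isCM_of_ringEquiv (polyEquivTensor' A p.ResidueField).toRingEquiv (FlatLoc6.isCM_of_isRegularRing _)
  haveI : IsNoetherianRing (Localization.AtPrime Q) := IsLocalization.isNoetherianRing Q.primeCompl _ inferInstance
  obtain ⟨h1, h2⟩ := FlatLoc6.formulas_self p Q rfl
  refine { supportDim_eq_depth := ?_ }
  have hA := h.supportDim_eq_depth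
  rw [Module.supportDim_self_eq_ringKrullDim, IsLocalization.AtPrime.ringKrullDim_eq_height p] at hA
  rw [Module.supportDim_self_eq_ringKrullDim, IsLocalization.AtPrime.ringKrullDim_eq_height Q, h2, h1, hA,
    FlatLoc6.fib_eq_of_fiber_isCM p Q rfl]
  rfl

/-- The ideal of Laurent polynomials with all coefficients in `p`. -/
noncomputable def coeffPrime {A : Type u} [CommRing A] (p : Ideal A) : Ideal A[T;T⁻¹] :=
  RingHom.ker (AddMonoidAlgebra.mapRingHom ℤ (Ideal.Quotient.mk p))

instance isPrime_coeffPrime {A : Type u} [CommRing A] (p : Ideal A) [p.IsPrime] : (coeffPrime p).IsPrime :=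
  RingHom.ker_isPrime _

theorem mem_coeffPrime {A : Type u} [CommRing A] (p : Ideal A) (f : A[T;T⁻¹]) :
    f ∈ coeffPrime p ↔ ∀ n, f.coeff n ∈ p := by
  rw [coeffPrime, RingHom.mem_ker]
  refine ⟨fun h n => ?_, fun h => LaurentPolynomial.ext fun n => ?_⟩
  · have := congrArg (fun g : (A ⧸ p)[T;T⁻¹] => g.coeff n) h
    simpa [Ideal.Quotient.eq_zero_iff_mem] using this
  · simpa [Ideal.Quotient.eq_zero_iff_mem] using h n

theorem comap_coeffPrime {A : Type u} [CommRing A] (p : Ideal A) :
    (coeffPrime p).comap (algebraMap A A[T;T⁻¹]) = p := by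
  ext a
  rw [Ideal.mem_comap, mem_coeffPrime, ← LaurentPolynomial.C_eq_algebraMap]
  refine ⟨fun h => ?_, fun h n => ?_⟩
  · have h0 := h 0
    rwa [← single_eq_C, AddMonoidAlgebra.coeff_single, Finsupp.single_eq_same] at h0
  · rw [← single_eq_C, AddMonoidAlgebra.coeff_single, Finsupp.single_apply]
    split_ifs
    · exact h
    · exact Ideal.zero_mem _

theorem isCM_base_of_laurent {A : Type u} [CommRing A] [IsNoetherianRing A] [IsNoetherianRing A[T;T⁻¹]]
    (q : Ideal A) [q.IsPrime] (h : LocCoh.IsCohenMacaulayLocalRing (Localization.AtPrime (coeffPrime q))) :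
    LocCoh.IsCohenMacaulayLocalRing (Localization.AtPrime q) := by
  haveI : (coeffPrime q).LiesOver q := ⟨(comap_coeffPrime q).symm⟩
  letI := Localization.AtPrime.algebraOfLiesOver q (coeffPrime q)
  haveI := FlatLoc6.isLocalHom_atPrime q (coeffPrime q)
  haveI : IsNoetherianRing (Localization.AtPrime q) := IsLocalization.isNoetherianRing q.primeCompl _ inferInstance
  haveI : IsNoetherianRing (Localization.AtPrime (coeffPrime q)) :=
    IsLocalization.isNoetherianRing (coeffPrime q).primeCompl _ inferInstance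
  haveI : Module.Flat (Localization.AtPrime q) (Localization.AtPrime (coeffPrime q)) := by
    infer_instance
  exact ((Triage.CMMor.isCM_iff (Localization.AtPrime q) (Localization.AtPrime (coeffPrime q))).1 h).1

theorem isCM_congr_equiv {R S : Type u} [CommRing R] [CommRing S] (e : R ≃+* S) (P : Ideal S) [P.IsPrime] :
    LocCoh.IsCohenMacaulayLocalRing (Localization.AtPrime P) ↔
      LocCoh.IsCohenMacaulayLocalRing (Localization.AtPrime (P.comap (e : R →+* S))) := by
  letI : Algebra R S := (e : R →+* S).toAlgebra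
  haveI : IsLocalization (⊥ : Submonoid R) S := by
    refine (isLocalization_iff _ _).2 ⟨?_, ?_, ?_⟩
    · rintro ⟨x, hx⟩
      obtain rfl := Submonoid.mem_bot.1 hx
      exact isUnit_one.map _
    · intro z
      refine ⟨⟨e.symm z, 1⟩, ?_⟩
      change z * algebraMap R S 1 = e (e.symm z)
      rw [map_one, mul_one, e.apply_symm_apply]
    · intro x y hxy
      exact ⟨1, by rw [e.injective hxy]⟩
  exact localProperty_cm.comap_iff (⊥ : Submonoid R) S P

theorem isCM_of_lift {S : Type u} [CommRing S] [IsNoetherianRing S] {f : S} (hf : f ∈ nonZeroDivisors S)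
    {G : Type u} [CommRing G] (φ : S →+* G) (hφ : Function.Surjective φ) (hker : RingHom.ker φ = Ideal.span {f})
    (p : Ideal G) [p.IsPrime] :
    LocCoh.IsCohenMacaulayLocalRing (Localization.AtPrime (p.comap φ)) ↔
      LocCoh.IsCohenMacaulayLocalRing (Localization.AtPrime p) := by
  let e : S ⧸ Ideal.span {f} ≃+* G :=
    (Ideal.quotEquivOfEq hker.symm).trans (RingHom.quotientKerEquivOfSurjective hφ)
  have he : (e : (S ⧸ Ideal.span {f}) →+* G).comp (Ideal.Quotient.mk (Ideal.span {f})) = φ :=
    RingHom.ext fun x => rfl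
  rw [isCM_congr_equiv e p]
  set n := p.comap (e : (S ⧸ Ideal.span {f}) →+* G) with hn
  have hnp : n.comap (Ideal.Quotient.mk (Ideal.span {f})) = p.comap φ := by rw [hn, Ideal.comap_comap, he]
  obtain ⟨hreg, hm, ⟨eq⟩⟩ := exists_quot_equiv hf n
  haveI : IsNoetherianRing (Localization.AtPrime (n.comap (Ideal.Quotient.mk (Ideal.span {f})))) :=
    IsLocalization.isNoetherianRing (n.comap (Ideal.Quotient.mk (Ideal.span {f}))).primeCompl _ inferInstance
  exact ⟨fun h => localProperty_cm.of_ringEquiv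
      ((localProperty_cm.quot_iff _ hm hreg).1 (localProperty_cm.congr hnp.symm h)) eq.symm,
    fun h => localProperty_cm.congr hnp ((localProperty_cm.quot_iff _ hm hreg).2 (localProperty_cm.of_ringEquiv h eq))⟩

variable {A : Type u} [CommRing A] [IsNoetherianRing A] (𝓕 : FiltBl.IdealFiltration A)

theorem cm_off_positive_iff [IsNoetherianRing 𝓕.extRees] {G : Type u} [CommRing G] (φ : 𝓕.extRees →+* G)
    (hφ : Function.Surjective φ) (hker : RingHom.ker φ = Ideal.span {𝓕.u}) (Rp : Ideal 𝓕.extRees)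
    (hRp : Rp = Ideal.span {x : 𝓕.extRees | ∃ n : ℕ, 0 < n ∧ ∃ a ∈ 𝓕.F n,
      (x : A[T;T⁻¹]) = LaurentPolynomial.C a * T (n : ℤ)}) :
    (∀ (P : Ideal 𝓕.extRees) [P.IsPrime], ¬ Rp ≤ P →
        LocCoh.IsCohenMacaulayLocalRing (Localization.AtPrime P)) ↔
      ((∀ (p : Ideal G) [p.IsPrime], ¬ Ideal.map φ Rp ≤ p →
          LocCoh.IsCohenMacaulayLocalRing (Localization.AtPrime p)) ∧
        (∀ (q : Ideal A) [q.IsPrime], ¬ 𝓕.F 1 ≤ q →
            LocCoh.IsCohenMacaulayLocalRing (Localization.AtPrime q))) := by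
  haveI := isLocalization_away_u 𝓕
  haveI : IsNoetherianRing A[T;T⁻¹] := IsLocalization.isNoetherianRing (Submonoid.powers 𝓕.u) _ inferInstance
  have hu := u_mem_nonZeroDivisors 𝓕
  constructor
  · intro h
    refine ⟨fun p _ hp => ?_, fun q _ hq => ?_⟩
    · exact (isCM_of_lift hu φ hφ hker p).1 (h _ fun hle => hp (Ideal.map_le_iff_le_comap.2 hle))
    · obtain ⟨a, ha, haq⟩ := SetLike.not_le_iff_exists.1 hq
      refine isCM_base_of_laurent q ((localProperty_cm.comap_iff (Submonoid.powers 𝓕.u) A[T;T⁻¹] _).2 (h _ ?_))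
      intro hle
      have hmem : mon 𝓕 1 a (by simpa using ha) ∈ Rp := by
        rw [hRp]
        exact Ideal.subset_span ⟨1, one_pos, a, ha, by rw [coe_mon, ← single_eq_C_mul_T, Nat.cast_one]⟩
      have := (mem_coeffPrime q _).1 (Ideal.mem_comap.1 (hle hmem)) 1
      change (AddMonoidAlgebra.single (1 : ℤ) a).coeff 1 ∈ q at this
      rw [AddMonoidAlgebra.coeff_single, Finsupp.single_eq_same] at this
      exact haq this
  · rintro ⟨hG, hA⟩ P _ hP
    by_cases huP : 𝓕.u ∈ P
    · have hk : RingHom.ker φ ≤ P := by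
        rw [hker, Ideal.span_singleton_le_iff_mem]
        exact huP
      haveI := Ideal.map_isPrime_of_surjective hφ hk
      have hp : (P.map φ).comap φ = P := by
        rw [Ideal.comap_map_of_surjective _ hφ]
        exact sup_eq_left.2 hk
      exact localProperty_cm.congr hp ((isCM_of_lift hu φ hφ hker (P.map φ)).2
        (hG _ fun hle => hP (by rw [← hp]; exact Ideal.map_le_iff_le_comap.1 hle)))
    · have hdis : Disjoint (Submonoid.powers 𝓕.u : Set 𝓕.extRees) (P : Set 𝓕.extRees) :=
        Set.disjoint_left.2 fun a ha hb => huP (by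
          obtain ⟨j, rfl⟩ := ha
          exact ‹P.IsPrime›.mem_of_pow_mem j hb)
      haveI := IsLocalization.isPrime_of_isPrime_disjoint (Submonoid.powers 𝓕.u) A[T;T⁻¹] P inferInstance hdis
      have hQ := IsLocalization.comap_map_of_isPrime_disjoint (Submonoid.powers 𝓕.u) A[T;T⁻¹]
        (‹P.IsPrime›) hdis
      refine localProperty_cm.congr hQ ((localProperty_cm.comap_iff (Submonoid.powers 𝓕.u) A[T;T⁻¹] _).1 ?_)
      rw [localProperty_cm.comap_iff (Submonoid.powers (Polynomial.X : A[X])) A[T;T⁻¹]]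
      refine isCM_polynomial_atPrime _ (hA _ fun hle => hP ?_)
      rw [hRp, Ideal.span_le]
      rintro x ⟨n, hn, b, hb, hx⟩
      have hbm : algebraMap A A[T;T⁻¹] b ∈ P.map (algebraMap 𝓕.extRees A[T;T⁻¹]) := by
        have := hle (𝓕.antitone (show 1 ≤ n from hn) hb)
        rw [Ideal.mem_comap, Ideal.mem_comap, algebraMap_eq_toLaurent, Polynomial.algebraMap_eq, Polynomial.toLaurent_C,
          LaurentPolynomial.C_eq_algebraMap] at this
        exact this
      have hxm : algebraMap 𝓕.extRees A[T;T⁻¹] x ∈ P.map (algebraMap 𝓕.extRees A[T;T⁻¹]) := by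
        change (x : A[T;T⁻¹]) ∈ _
        rw [hx, LaurentPolynomial.C_eq_algebraMap]
        exact Ideal.mul_mem_right _ _ hbm
      exact hQ.le hxm

end Groth.Agent.H6FiltBl
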