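import Groth.Agent.H6FiltBl.Ext

/-!
# Transfer of a local property between the extended Rees algebra and the associated graded ring
-/

set_option backward.isDefEq.respectTransparency false
set_option backward.isDefEq.respectTransparency.types false

universe u

open Polynomial LaurentPolynomial

namespace Groth.Agent.H6FiltBl

/-- The quotient of a localization by a regular element is the localization of the quotient. -/
theorem exists_quot_equiv {S : Type u} [CommRing S] {f : S}
    (hf : f ∈ nonZeroDivisors S) (n : Ideal (S ⧸ Ideal.span {f})) [n.IsPrime] :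
    IsSMulRegular (Localization.AtPrime (n.comap (Ideal.Quotient.mk (Ideal.span {f}))))
        (algebraMap S (Localization.AtPrime (n.comap (Ideal.Quotient.mk (Ideal.span {f})))) f) ∧
      algebraMap S (Localization.AtPrime (n.comap (Ideal.Quotient.mk (Ideal.span {f})))) f ∈
        IsLocalRing.maximalIdeal (Localization.AtPrime (n.comap (Ideal.Quotient.mk (Ideal.span {f})))) ∧
      Nonempty (Localization.AtPrime n ≃+* (Localization.AtPrime (n.comap (Ideal.Quotient.mk (Ideal.span {f}))) ⧸
        Ideal.span {algebraMap S (Localization.AtPrime (n.comap (Ideal.Quotient.mk (Ideal.span {f})))) f})) := by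
  let I := Ideal.span {f}
  let p := n.comap (Ideal.Quotient.mk I)
  haveI : p.IsPrime := Ideal.comap_isPrime _ _
  let L := Localization.AtPrime p
  let g := algebraMap S L
  have hfp : f ∈ p := by
    show Ideal.Quotient.mk I f ∈ n
    rw [Ideal.Quotient.eq_zero_iff_mem.mpr (Ideal.mem_span_singleton_self f)]
    exact n.zero_mem
  have hgm : g f ∈ IsLocalRing.maximalIdeal L := (IsLocalization.AtPrime.to_map_mem_maximal_iff L p f).mpr hfp
  have hreg : IsSMulRegular L (g f) := by
    intro a b hab
    obtain ⟨⟨a₁, s⟩, rfl⟩ := IsLocalization.mk'_surjective p.primeCompl a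
    obtain ⟨⟨b₁, t⟩, rfl⟩ := IsLocalization.mk'_surjective p.primeCompl b
    simp only [smul_eq_mul, g, ← IsLocalization.mk'_one (M := p.primeCompl) L f, ← IsLocalization.mk'_mul, one_mul,
      IsLocalization.eq] at hab
    obtain ⟨c, hc⟩ := hab
    refine IsLocalization.eq.mpr ⟨c, ?_⟩
    refine (mul_cancel_left_mem_nonZeroDivisors hf).mp ?_
    linear_combination hc
  have hmap : Algebra.algebraMapSubmonoid (S ⧸ I) p.primeCompl = n.primeCompl := by
    ext y
    constructor
    · rintro ⟨x, hx, rfl⟩; exact hx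
    · intro hy
      obtain ⟨x, rfl⟩ := Ideal.Quotient.mk_surjective y
      exact ⟨x, hy, rfl⟩
  haveI : IsLocalization n.primeCompl (L ⧸ I.map g) := hmap ▸ inferInstance
  have hI : I.map g = Ideal.span {g f} := by rw [Ideal.map_span, Set.image_singleton]
  exact ⟨hreg, hgm, ⟨(IsLocalization.algEquiv n.primeCompl (Localization.AtPrime n) (L ⧸ I.map g)).toRingEquiv.trans
    (Ideal.quotEquivOfEq hI)⟩⟩

/-- A property of Noetherian local rings stable under the operations used below. -/
structure LocalProperty (Pr : ∀ (R : Type u) [CommRing R], Prop) : Prop where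
  of_ringEquiv : ∀ {R S : Type u} [CommRing R] [CommRing S], Pr R → (R ≃+* S) → Pr S
  localization : ∀ {R : Type u} [CommRing R] [IsLocalRing R] [IsNoetherianRing R], Pr R →
    ∀ (p : Ideal R) [p.IsPrime], Pr (Localization.AtPrime p)
  quot_iff : ∀ {R : Type u} [CommRing R] [IsLocalRing R] [IsNoetherianRing R] (x : R),
    x ∈ IsLocalRing.maximalIdeal R → IsSMulRegular R x → (Pr R ↔ Pr (R ⧸ Ideal.span {x}))
  descend : ∀ {R S : Type u} [CommRing R] [CommRing S] [IsLocalRing R] [IsLocalRing S] [IsNoetherianRing R]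
    [IsNoetherianRing S] [Algebra R S] [IsLocalHom (algebraMap R S)] [Module.Flat R S], Pr S → Pr R
  polynomial : ∀ {R : Type u} [CommRing R] [IsLocalRing R] [IsNoetherianRing R], Pr R →
    ∀ (q : Ideal R[X]) [q.IsPrime], Pr (Localization.AtPrime q)

variable {Pr : ∀ (R : Type u) [CommRing R], Prop}

theorem LocalProperty.congr (h : LocalProperty Pr) {R : Type u} [CommRing R] {p q : Ideal R} [p.IsPrime]
    [q.IsPrime] (e : p = q) (hp : Pr (Localization.AtPrime p)) : Pr (Localization.AtPrime q) := by
  subst e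
  exact h.of_ringEquiv hp (RingEquiv.refl _)

theorem LocalProperty.of_le (h : LocalProperty Pr) {R : Type u} [CommRing R] [IsNoetherianRing R]
    {p q : Ideal R} [p.IsPrime] [q.IsPrime] (hle : p ≤ q) (hq : Pr (Localization.AtPrime q)) :
    Pr (Localization.AtPrime p) := by
  haveI : IsNoetherianRing (Localization.AtPrime q) := IsLocalization.isNoetherianRing q.primeCompl _ inferInstance
  have hdis : Disjoint (q.primeCompl : Set R) (p : Set R) := Set.disjoint_left.2 fun a ha hb => ha (hle hb)
  haveI : (p.map (algebraMap R (Localization.AtPrime q))).IsPrime :=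
    IsLocalization.isPrime_of_isPrime_disjoint q.primeCompl _ p inferInstance hdis
  have hcom : (p.map (algebraMap R (Localization.AtPrime q))).comap (algebraMap R (Localization.AtPrime q)) = p :=
    IsLocalization.comap_map_of_isPrime_disjoint q.primeCompl _ inferInstance hdis
  exact h.congr hcom (h.of_ringEquiv (h.localization hq (p.map (algebraMap R (Localization.AtPrime q))))
    (IsLocalization.localizationLocalizationAtPrimeIsoLocalization q.primeCompl
      (p.map (algebraMap R (Localization.AtPrime q)))).toRingEquiv.symm)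

theorem LocalProperty.comap_iff (h : LocalProperty Pr) {R : Type u} [CommRing R] (M : Submonoid R) (S : Type u)
    [CommRing S] [Algebra R S] [IsLocalization M S] (Q : Ideal S) [Q.IsPrime] :
    Pr (Localization.AtPrime Q) ↔ Pr (Localization.AtPrime (Q.comap (algebraMap R S))) := by
  haveI : IsLocalization.AtPrime (Localization.AtPrime Q) (Q.comap (algebraMap R S)) :=
    IsLocalization.isLocalization_isLocalization_atPrime_isLocalization M (Localization.AtPrime Q) Q
  let e := (IsLocalization.algEquiv (Q.comap (algebraMap R S)).primeCompl (Localization.AtPrime Q)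
    (Localization.AtPrime (Q.comap (algebraMap R S)))).toRingEquiv
  exact ⟨fun hQ => h.of_ringEquiv hQ e, fun hQ => h.of_ringEquiv hQ e.symm⟩

/-- The property holds at every prime. -/
def AllPrimes (Pr : ∀ (R : Type u) [CommRing R], Prop) (R : Type u) [CommRing R] : Prop :=
  ∀ (p : Ideal R) [p.IsPrime], Pr (Localization.AtPrime p)

theorem gr_aux (h : LocalProperty Pr) {S : Type u} [CommRing S] [IsNoetherianRing S] {f : S}
    (hf : f ∈ nonZeroDivisors S) (H : AllPrimes Pr S) : AllPrimes Pr (S ⧸ Ideal.span {f}) := by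
  intro n _
  obtain ⟨hreg, hmem, ⟨e⟩⟩ := exists_quot_equiv hf n
  haveI : IsNoetherianRing (Localization.AtPrime (n.comap (Ideal.Quotient.mk (Ideal.span {f})))) :=
    IsLocalization.isNoetherianRing (n.comap (Ideal.Quotient.mk (Ideal.span {f}))).primeCompl _ inferInstance
  exact h.of_ringEquiv ((h.quot_iff _ hmem hreg).1 (H _)) e.symm

theorem lift_aux (h : LocalProperty Pr) {S : Type u} [CommRing S] [IsNoetherianRing S] {f : S}
    (hf : f ∈ nonZeroDivisors S) (H : AllPrimes Pr (S ⧸ Ideal.span {f})) (P : Ideal S) [P.IsPrime]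
    (huP : f ∈ P) : Pr (Localization.AtPrime P) := by
  have hker : RingHom.ker (Ideal.Quotient.mk (Ideal.span {f})) ≤ P := by
    rw [Ideal.mk_ker, Ideal.span_singleton_le_iff_mem]
    exact huP
  let n : Ideal (S ⧸ Ideal.span {f}) := P.map (Ideal.Quotient.mk (Ideal.span {f}))
  haveI : n.IsPrime := Ideal.map_isPrime_of_surjective Ideal.Quotient.mk_surjective hker
  have hn : n.comap (Ideal.Quotient.mk (Ideal.span {f})) = P := by
    rw [Ideal.comap_map_of_surjective _ Ideal.Quotient.mk_surjective]
    exact sup_eq_left.2 hker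
  obtain ⟨hreg, hm, ⟨e⟩⟩ := exists_quot_equiv hf n
  haveI : IsNoetherianRing (Localization.AtPrime (n.comap (Ideal.Quotient.mk (Ideal.span {f})))) :=
    IsLocalization.isNoetherianRing (n.comap (Ideal.Quotient.mk (Ideal.span {f}))).primeCompl _ inferInstance
  exact h.congr hn ((h.quot_iff _ hm hreg).2 (h.of_ringEquiv (H n) e))

variable {A : Type u} [CommRing A] (𝓕 : FiltBl.IdealFiltration A)

theorem gr_of_extRees (h : LocalProperty Pr) [IsNoetherianRing 𝓕.extRees]
    (H : AllPrimes Pr 𝓕.extRees) : AllPrimes Pr 𝓕.Gr :=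
  gr_aux h (u_mem_nonZeroDivisors 𝓕) H

theorem extRees_of_gr (h : LocalProperty Pr) [IsNoetherianRing A] [IsLocalRing A] [IsNoetherianRing 𝓕.extRees]
    (h1 : 𝓕.F 1 ≠ ⊤) (H : AllPrimes Pr 𝓕.Gr) : AllPrimes Pr 𝓕.extRees := by
  intro P _
  -- primes containing `u`
  have hmem : ∀ (P : Ideal 𝓕.extRees) [P.IsPrime], 𝓕.u ∈ P → Pr (Localization.AtPrime P) :=
    fun P _ huP => lift_aux h (u_mem_nonZeroDivisors 𝓕) H P huP
  by_cases huP : 𝓕.u ∈ P
  · exact hmem P huP
  haveI := isLocalization_away_u 𝓕
  -- `A` has the property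
  have hA : Pr A := by
    obtain ⟨M, hM, huM, hle⟩ := exists_isMaximal 𝓕 h1
    haveI := hM.isPrime
    haveI : ((coeffMax (A := A)).comap (algebraMap 𝓕.extRees A[T;T⁻¹])).IsPrime := Ideal.comap_isPrime _ _
    have h0 := h.of_le hle (hmem M huM)
    rw [← h.comap_iff (Submonoid.powers 𝓕.u) A[T;T⁻¹] (coeffMax (A := A))] at h0
    haveI : IsNoetherianRing A[T;T⁻¹] := IsLocalization.isNoetherianRing (Submonoid.powers 𝓕.u) _ inferInstance
    haveI : IsNoetherianRing (Localization.AtPrime (coeffMax (A := A))) :=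
      IsLocalization.isNoetherianRing (coeffMax (A := A)).primeCompl _ inferInstance
    haveI : IsLocalHom (algebraMap A (Localization.AtPrime (coeffMax (A := A)))) := by
      refine ⟨fun a ha => ?_⟩
      rw [IsScalarTower.algebraMap_apply A A[T;T⁻¹], IsLocalization.AtPrime.isUnit_to_map_iff _ (coeffMax (A := A))] at ha
      by_contra hna
      refine ha (show algebraMap A A[T;T⁻¹] a ∈ coeffMax (A := A) from Ideal.mem_comap.1 ?_)
      rw [comap_coeffMax]
      exact hna
    haveI : Module.Flat A (Localization.AtPrime (coeffMax (A := A))) :=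
      haveI : Module.Flat A[T;T⁻¹] (Localization.AtPrime (coeffMax (A := A))) :=
        IsLocalization.flat _ (coeffMax (A := A)).primeCompl
      Module.Flat.trans A A[T;T⁻¹] _
    exact h.descend h0
  -- primes not containing `u`
  obtain ⟨Q, hQ, rfl⟩ : ∃ Q : Ideal A[T;T⁻¹], Q.IsPrime ∧ Q.comap (algebraMap 𝓕.extRees A[T;T⁻¹]) = P := by
    have hdis : Disjoint (Submonoid.powers 𝓕.u : Set 𝓕.extRees) (P : Set 𝓕.extRees) :=
      Set.disjoint_left.2 fun a ha hb => huP (by
        obtain ⟨k, rfl⟩ := ha
        exact ‹P.IsPrime›.mem_of_pow_mem k hb)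
    exact ⟨P.map (algebraMap 𝓕.extRees A[T;T⁻¹]),
      IsLocalization.isPrime_of_isPrime_disjoint (Submonoid.powers 𝓕.u) _ P inferInstance hdis,
      IsLocalization.comap_map_of_isPrime_disjoint (Submonoid.powers 𝓕.u) _ inferInstance hdis⟩
  rw [← h.comap_iff (Submonoid.powers 𝓕.u) A[T;T⁻¹] Q,
    h.comap_iff (Submonoid.powers (Polynomial.X : A[X])) A[T;T⁻¹] Q]
  exact h.polynomial hA _

end Groth.Agent.H6FiltBl
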